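import Cfsg.Agent.Lib.RootSubgroups.Basic

/-!
A conjugation invariant family of subgroups satisfying the pairwise axioms, seen inside the
subgroup it generates, is a set of `k`-root subgroups.
-/

set_option autoImplicit false

namespace Cfsg.Agent.Lib.RootModels.Generated

open Cfsg

variable {G : Type*} [Group G] {k : Type*} [Field k]

theorem map_subgroupOf {A H : Subgroup G} (h : A ≤ H) : (A.subgroupOf H).map H.subtype = A :=
  Subgroup.map_subgroupOf_eq_of_le h

theorem subgroupOf_commutator {A B H : Subgroup G} (hA : A ≤ H) (hB : B ≤ H) :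
    ⁅A, B⁆.subgroupOf H = ⁅A.subgroupOf H, B.subgroupOf H⁆ := by
  refine Subgroup.map_injective H.subtype_injective ?_
  have hc : ⁅A, B⁆ ≤ H := Subgroup.commutator_le.2 fun a ha b hb => by
    rw [commutatorElement_def]
    exact mul_mem (mul_mem (mul_mem (hA ha) (hB hb)) (inv_mem (hA ha))) (inv_mem (hB hb))
  rw [map_subgroupOf hc, Subgroup.map_commutator, map_subgroupOf hA, map_subgroupOf hB]

theorem subgroupOf_conjBy {A H : Subgroup G} (hA : A ≤ H) (g : H) :
    conjBy (A.subgroupOf H) g = (conjBy A (g : G)).subgroupOf H := by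
  refine Subgroup.map_injective H.subtype_injective ?_
  rw [map_subgroupOf (Lib.RootSubgroups.conjBy_le_of_mem hA g.2),
    Lib.RootSubgroups.map_conjBy, map_subgroupOf hA]
  rfl

theorem rankOne_subgroupOf {A B H : Subgroup G} (hA : A ≤ H) (hB : B ≤ H)
    (h : IsRankOnePair A B) : IsRankOnePair (A.subgroupOf H) (B.subgroupOf H) := by
  have nil : ∀ {A : Subgroup G}, A ≤ H → Group.IsNilpotent A →
      Group.IsNilpotent (A.subgroupOf H) := fun hA hn =>
    Group.nilpotent_of_surjective (Subgroup.subgroupOfEquivOfLe hA).symm.toMonoidHom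
      (Subgroup.subgroupOfEquivOfLe hA).symm.surjective
  have cond : ∀ {A B : Subgroup G}, A ≤ H → B ≤ H → RankOneCondition A B →
      RankOneCondition (A.subgroupOf H) (B.subgroupOf H) := by
    intro A B hA hB hc a ha ha1
    obtain ⟨b, hb, hb1, e⟩ := hc (a : G) ha fun e => ha1 (Subtype.ext e)
    refine ⟨⟨b, hB hb⟩, hb, fun e => hb1 (congrArg Subtype.val e), ?_⟩
    rw [subgroupOf_conjBy hA, subgroupOf_conjBy hB]
    exact congrArg (fun K : Subgroup G => K.subgroupOf H) e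
  refine ⟨fun e => h.ne ?_, nil hA h.nilpotent_left, nil hB h.nilpotent_right,
    cond hA hB h.cond_left, cond hB hA h.cond_right⟩
  rw [← map_subgroupOf hA, e, map_subgroupOf hB]

theorem psl2_subgroupOf {A B H : Subgroup G} (hA : A ≤ H) (hB : B ≤ H)
    (h : IsPSL2PairOver k A B) : IsPSL2PairOver k (A.subgroupOf H) (B.subgroupOf H) := by
  obtain ⟨φ, hr, hk, hu, hl⟩ := h
  have hm : ∀ x, φ x ∈ H := fun x =>
    (sup_le hA hB : A ⊔ B ≤ H) (hr ▸ MonoidHom.mem_range.2 ⟨x, rfl⟩)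
  let ψ : Matrix.SpecialLinearGroup (Fin 2) k →* H := φ.codRestrict H hm
  have hψ : H.subtype.comp ψ = φ := MonoidHom.ext fun _ => rfl
  refine ⟨ψ, ?_, ?_, ?_, ?_⟩
  · refine Subgroup.map_injective H.subtype_injective ?_
    rw [Subgroup.map_sup, map_subgroupOf hA, map_subgroupOf hB, ← hr, ← hψ, MonoidHom.range_comp]
  · intro x hx
    exact hk (show φ x = 1 from congrArg Subtype.val (show ψ x = 1 from hx))
  · refine Subgroup.map_injective H.subtype_injective ?_
    rw [Subgroup.map_map, hψ, map_subgroupOf hA, hu]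
  · refine Subgroup.map_injective H.subtype_injective ?_
    rw [Subgroup.map_map, hψ, map_subgroupOf hB, hl]

theorem rcc_subgroupOf {S : Set (Subgroup G)} {A B H : Subgroup G} (hA : A ≤ H) (hB : B ≤ H)
    (h : RootCommutatorCase S A B) :
    RootCommutatorCase ((fun K : Subgroup G => K.subgroupOf H) '' S) (A.subgroupOf H)
      (B.subgroupOf H) := by
  refine ⟨?_, ?_, ?_, ?_⟩
  · rw [← subgroupOf_commutator hA hB]; exact ⟨_, h.1, rfl⟩
  · intro c hc x hx
    rw [← subgroupOf_commutator hA hB] at hc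
    have hx' : (x : G) ∈ A ⊔ B := by
      have := Subgroup.mem_map_of_mem H.subtype hx
      rwa [Subgroup.map_sup, map_subgroupOf hA, map_subgroupOf hB] at this
    exact Subtype.ext (h.2.1 (c : G) hc (x : G) hx')
  · intro a ha ha1
    refine Subgroup.map_injective H.subtype_injective ?_
    rw [← subgroupOf_commutator hA hB, MonoidHom.map_closure,
      map_subgroupOf ((h.2.2.1 (a : G) ha fun e => ha1 (Subtype.ext e)).symm.le.trans
        ((Subgroup.closure_le _).2 ?_)), ← h.2.2.1 (a : G) ha fun e => ha1 (Subtype.ext e)]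
    · congr 1
      ext y
      constructor
      · rintro ⟨_, ⟨b, hb, rfl⟩, rfl⟩; exact ⟨(b : G), hb, rfl⟩
      · rintro ⟨b, hb, rfl⟩; exact ⟨_, ⟨⟨b, hB hb⟩, hb, rfl⟩, rfl⟩
    · rintro _ ⟨b, hb, rfl⟩
      exact mul_mem (mul_mem (mul_mem a.2 (hB hb)) (inv_mem a.2)) (inv_mem (hB hb))
  · intro b hb hb1
    refine Subgroup.map_injective H.subtype_injective ?_
    rw [← subgroupOf_commutator hA hB, MonoidHom.map_closure,
      map_subgroupOf ((h.2.2.2 (b : G) hb fun e => hb1 (Subtype.ext e)).symm.le.trans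
        ((Subgroup.closure_le _).2 ?_)), ← h.2.2.2 (b : G) hb fun e => hb1 (Subtype.ext e)]
    · congr 1
      ext y
      constructor
      · rintro ⟨_, ⟨a, ha, rfl⟩, rfl⟩; exact ⟨(a : G), ha, rfl⟩
      · rintro ⟨a, ha, rfl⟩; exact ⟨_, ⟨⟨a, hA ha⟩, ha, rfl⟩, rfl⟩
    · rintro _ ⟨a, ha, rfl⟩
      exact mul_mem (mul_mem (mul_mem (hA ha) b.2) (inv_mem (hA ha))) (inv_mem b.2)

theorem kRoot {S : Set (Subgroup G)} (hcomm : ∀ A ∈ S, IsMulCommutative A)
    (hne : ∀ A ∈ S, A ≠ ⊥) (hconj : ∀ A ∈ S, ∀ g : G, conjBy A g ∈ S)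
    (hpair : ∀ A ∈ S, ∀ B ∈ S, ⁅A, B⁆ = ⊥ ∨ (IsRankOnePair A B ∧ IsPSL2PairOver k A B) ∨
      RootCommutatorCase S A B) :
    IsKRootSubgroupSet k ((fun A : Subgroup G => A.subgroupOf (⨆ B ∈ S, B)) '' S) := by
  set H := ⨆ B ∈ S, B
  have hle : ∀ A ∈ S, A ≤ H := fun A hA => le_iSup₂ (f := fun B (_ : B ∈ S) => B) A hA
  have hbot : ∀ A ∈ S, ∀ B ∈ S, ⁅A, B⁆ = ⊥ → ⁅A.subgroupOf H, B.subgroupOf H⁆ = ⊥ :=
    fun A hA B hB e => by rw [← subgroupOf_commutator (hle A hA) (hle B hB), e,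
      Subgroup.bot_subgroupOf]
  have hS : IsRootSubgroupSet ((fun A : Subgroup G => A.subgroupOf H) '' S) := by
    refine ⟨?_, ?_, ?_, ?_, ?_⟩
    · rintro _ ⟨A, hA, rfl⟩
      refine ⟨⟨fun ⟨a, ha⟩ ⟨b, hb⟩ => Subtype.ext (Subtype.ext ?_)⟩⟩
      have h1 := congrArg (fun x : A => (x : G)) ((hcomm A hA).is_comm.comm ⟨(a : G), ha⟩ ⟨(b : G), hb⟩)
      exact h1
    · rintro _ ⟨A, hA, rfl⟩ e
      have e' : A.subgroupOf H = ⊥ := e
      exact hne A hA (by rw [← map_subgroupOf (hle A hA), e', Subgroup.map_bot])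
    · refine Subgroup.map_injective H.subtype_injective ?_
      rw [Subgroup.map_iSup, ← MonoidHom.range_eq_map, Subgroup.range_subtype]
      refine le_antisymm (iSup_le fun B => ?_) (iSup₂_le fun A hA => ?_)
      · rw [Subgroup.map_iSup]
        refine iSup_le ?_
        rintro ⟨A, hA, rfl⟩
        rw [map_subgroupOf (hle A hA)]
        exact hle A hA
      · refine le_iSup_of_le (A.subgroupOf H) ?_
        rw [Subgroup.map_iSup]
        exact le_iSup_of_le ⟨A, hA, rfl⟩ (map_subgroupOf (hle A hA)).symm.le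
    · rintro _ ⟨A, hA, rfl⟩ g
      exact ⟨_, hconj A hA g, (subgroupOf_conjBy (hle A hA) g).symm⟩
    · rintro _ ⟨A, hA, rfl⟩ _ ⟨B, hB, rfl⟩
      rcases hpair A hA B hB with h | ⟨h, -⟩ | h
      · exact Or.inl (hbot A hA B hB h)
      · exact Or.inr (Or.inl (rankOne_subgroupOf (hle A hA) (hle B hB) h))
      · exact Or.inr (Or.inr (rcc_subgroupOf (hle A hA) (hle B hB) h))
  refine ⟨hS, ?_⟩
  rintro _ ⟨A, hA, rfl⟩ _ ⟨B, hB, rfl⟩ hr
  rcases hpair A hA B hB with h | ⟨-, h⟩ | h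
  · exact absurd (hbot A hA B hB h) (Lib.RootSubgroups.RankOne.not_commute hr)
  · exact psl2_subgroupOf (hle A hA) (hle B hB) h
  · exact absurd (rcc_subgroupOf (hle A hA) (hle B hB) h)
      (Lib.RootSubgroups.Root.not_commutatorCase hS ⟨B, hB, rfl⟩ hr)

end Cfsg.Agent.Lib.RootModels.Generated
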