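import Cfsg.Agent.Lib.RootModels.Embed
import Cfsg.Agent.Lib.RootModels.Generated
import Cfsg.Agent.Lib.Unitary.Generation

/-!
The isotropic transvection subgroups of `SU_n(q)`.
-/

set_option autoImplicit false
set_option linter.unusedSectionVars false

namespace Cfsg.Agent.Lib.RootModels.SUPairs

open Cfsg Matrix Cfsg.Agent.Lib.Unitary

variable {n : ℕ} {F : Type*} [Field F] [Fintype F] {q : ℕ}

local notation "G" => Cfsg.SU n F q
local notation "↟" g:max =>
  ((Subtype.val g : SpecialLinearGroup (Fin n) F) : Matrix (Fin n) (Fin n) F)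
local notation "hh" => Cfsg.hermForm n F q

/-- The functional attached to a point. -/
def fn (q : ℕ) (p : Fin n → F) : Fin n → F := fun i => p i ^ q

theorem fn_dot (p x : Fin n → F) : fn q p ⬝ᵥ x = hh x p := by
  simp only [fn, dotProduct, hermForm, mul_comm]

theorem tm_herm (p : Fin n → F) (c : F) (x : Fin n → F) :
    tm (c • p) (fn q p) *ᵥ x = x + (hh x p * c) • p := by
  rw [tm_mulVec, fn_dot, smul_smul]

theorem tm_preserves (hF : Fintype.card F = q ^ 2) {p : Fin n → F} (hp : hh p p = 0) {c : F}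
    (hc : c + c ^ q = 0) (u v : Fin n → F) :
    hh (tm (c • p) (fn q p) *ᵥ u) (tm (c • p) (fn q p) *ᵥ v) = hh u v := by
  simp only [tm_herm, herm_add_left, herm_add_right _ _ _ hF, herm_smul_left, herm_smul_right,
    hp, mul_zero, add_zero, mul_pow, herm_conj v p hF]
  linear_combination (hh u p * hh p v) * hc

theorem det_tm' (q : ℕ) {p : Fin n → F} (hp : hermForm n F q p p = 0) (c : F) :
    (tm (c • p) (fn q p)).det = 1 :=
  det_tm (by rw [fn_dot, herm_smul_left, hp, mul_zero])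

/-- The transvection as an element of `SU`. -/
def tv (hF : Fintype.card F = q ^ 2) {p : Fin n → F} (hp : hh p p = 0) (c : F)
    (hc : c + c ^ q = 0) : G :=
  ⟨⟨tm (c • p) (fn q p), det_tm' q hp c⟩, fun u v => tm_preserves hF hp hc u v⟩

theorem coe_mul' (a b : G) : ↟(a * b) = ↟a * ↟b := rfl

theorem ext_mat {a b : G} (h : ↟a = ↟b) : a = b := Subtype.ext (Subtype.ext h)

theorem iso_h (g : G) (u v : Fin n → F) : hh (↟g *ᵥ u) (↟g *ᵥ v) = hh u v := g.2 u v

theorem tm_add' {p : Fin n → F} (hp : hh p p = 0) (c d : F) :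
    tm (c • p) (fn q p) * tm (d • p) (fn q p) = tm ((c + d) • p) (fn q p) := by
  rw [tm_add (by rw [fn_dot, herm_smul_left, hp, mul_zero]), add_smul]

/-- The transvection group at an isotropic point. -/
def rootGp (hF : Fintype.card F = q ^ 2) {p : Fin n → F} (hp : hh p p = 0) : Subgroup G where
  carrier := {g | ∃ c : F, c + c ^ q = 0 ∧ ↟g = tm (c • p) (fn q p)}
  one_mem' := ⟨0, by rw [zero_pow_q hF, add_zero], by rw [zero_smul, tm_zero]; rfl⟩
  mul_mem' := by
    rintro a b ⟨c, hc, ha⟩ ⟨d, hd, hb⟩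
    exact ⟨c + d, by rw [add_pow_q hF]; linear_combination hc + hd,
      by rw [coe_mul', ha, hb, tm_add' hp]⟩
  inv_mem' := by
    rintro a ⟨c, hc, ha⟩
    have hc' : -c + (-c) ^ q = 0 := by rw [neg_pow_q hF]; linear_combination -hc
    refine ⟨-c, hc', ?_⟩
    have : a⁻¹ = tv hF hp (-c) hc' := inv_eq_of_mul_eq_one_right (ext_mat (by
      rw [coe_mul', ha]
      show tm (c • p) (fn q p) * tm ((-c) • p) (fn q p) = 1
      rw [tm_add' hp, add_neg_cancel, zero_smul, tm_zero]))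
    rw [this]; rfl

/-- All transvection groups. -/
def family (hF : Fintype.card F = q ^ 2) : Set (Subgroup G) :=
  {A | ∃ p, p ≠ 0 ∧ ∃ hp : hh p p = 0, A = rootGp hF hp}

theorem ne_bot (hF : Fintype.card F = q ^ 2) {p : Fin n → F} (hp0 : p ≠ 0) (hp : hh p p = 0) :
    rootGp hF hp ≠ ⊥ := fun e => by
  obtain ⟨c, hc0, hc⟩ := exists_trace_zero_ne_zero hF
  have h1 : tv hF hp c hc ∈ rootGp hF hp := ⟨c, hc, rfl⟩
  rw [e, Subgroup.mem_bot] at h1
  obtain ⟨f, hf⟩ := exists_hyp hF hp0 hp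
  have h2 : tm (c • p) (fn q p) *ᵥ f = (1 : Matrix (Fin n) (Fin n) F) *ᵥ f :=
    congrArg (fun g : G => ↟g *ᵥ f) h1
  rw [tm_herm, one_mulVec, hf.symm' hF, one_mul, add_eq_left, smul_eq_zero] at h2
  exact h2.elim hc0 hp0

theorem commutative (hF : Fintype.card F = q ^ 2) {p : Fin n → F} (hp : hh p p = 0) :
    IsMulCommutative (rootGp hF hp) :=
  ⟨⟨fun ⟨a, c, _, hc⟩ ⟨b, d, _, hd⟩ => Subtype.ext (ext_mat (by
    show ↟(a * b) = ↟(b * a)
    rw [coe_mul', coe_mul', hc, hd, tm_add' hp, tm_add' hp, add_comm]))⟩⟩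

theorem isotropic_map (g : G) {p : Fin n → F} (hp : hh p p = 0) :
    hh (↟g *ᵥ p) (↟g *ᵥ p) = 0 := by rw [iso_h, hp]

theorem conjBy_rootGp (hF : Fintype.card F = q ^ 2) (g : G) {p : Fin n → F} (hp : hh p p = 0) :
    conjBy (rootGp hF hp) g = rootGp hF (isotropic_map g hp) := by
  have key : ∀ t : G, ∀ c : F, ↟t = tm (c • p) (fn q p) →
      ↟(g * t * g⁻¹) = tm (c • ↟g *ᵥ p) (fn q (↟g *ᵥ p)) := by
    intro t c ht
    refine Matrix.mulVec_injective (funext fun x => ?_)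
    show _ *ᵥ x = _ *ᵥ x
    set y := ↟(g⁻¹) *ᵥ x
    have hy : ↟g *ᵥ y = x := by
      rw [mulVec_mulVec, ← coe_mul', mul_inv_cancel]; exact one_mulVec x
    rw [coe_mul', coe_mul', ← mulVec_mulVec, ← mulVec_mulVec, ht, tm_herm, tm_herm, mulVec_add,
      mulVec_smul, hy, ← iso_h g y p, hy]
  ext x
  rw [Lib.RootSubgroups.mem_conjBy]
  constructor
  · rintro ⟨c, hc, hx⟩
    refine ⟨c, hc, ?_⟩
    rw [show x = g * (g⁻¹ * x * g) * g⁻¹ by group, key _ c hx]
  · rintro ⟨c, hc, hx⟩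
    refine ⟨c, hc, ?_⟩
    rw [show x = g * tv hF hp c hc * g⁻¹ from ext_mat (hx.trans (key (tv hF hp c hc) c rfl).symm),
      show g⁻¹ * (g * tv hF hp c hc * g⁻¹) * g = tv hF hp c hc by group]
    rfl

theorem commute_case (hF : Fintype.card F = q ^ 2) {p r : Fin n → F} (hp : hh p p = 0)
    (hr : hh r r = 0) (h : hh p r = 0) : ⁅rootGp hF hp, rootGp hF hr⁆ = ⊥ :=
  Lib.RootSubgroups.commutator_eq_bot_of_comm fun a ⟨c, _, hc⟩ b ⟨d, _, hd⟩ => ext_mat (by
    rw [coe_mul', coe_mul', hc, hd]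
    refine tm_comm ?_ ?_
    · rw [fn_dot, herm_smul_left, herm_eq_zero_symm hF h, mul_zero]
    · rw [fn_dot, herm_smul_left, h, mul_zero])

section Field

variable {L : Type} [Field L] {j : L →+* F}

theorem map_up (c : L) :
    SpecialLinearGroup.map j (Lib.RootSubgroups.SL2.up c) = Lib.RootSubgroups.SL2.up (j c) := by
  apply Subtype.ext
  ext a b
  rw [show ((SpecialLinearGroup.map j _ : SpecialLinearGroup (Fin 2) F) :
      Matrix (Fin 2) (Fin 2) F) a b = j _ from rfl]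
  fin_cases a <;> fin_cases b <;> simp

theorem map_low (c : L) :
    SpecialLinearGroup.map j (Lib.RootSubgroups.SL2.low c) = Lib.RootSubgroups.SL2.low (j c) := by
  apply Subtype.ext
  ext a b
  rw [show ((SpecialLinearGroup.map j _ : SpecialLinearGroup (Fin 2) F) :
      Matrix (Fin 2) (Fin 2) F) a b = j _ from rfl]
  fin_cases a <;> fin_cases b <;> simp

theorem rankOne_case (hF : Fintype.card F = q ^ 2) (hj : ∀ x : F, x ^ q = x ↔ ∃ c, j c = x)
    {p r : Fin n → F} (hp : hh p p = 0) (hr : hh r r = 0) (h : hh p r ≠ 0) :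
    IsRankOnePair (rootGp hF hp) (rootGp hF hr) ∧
      IsPSL2PairOver L (rootGp hF hp) (rootGp hF hr) := by
  obtain ⟨l, hl0, hl⟩ := exists_trace_zero_ne_zero hF
  set α := hh p r
  have hα : α ^ q ≠ 0 := pow_ne_zero _ h
  have hlq : l ^ q = -l := by linear_combination hl
  have hrp : hh r p = α ^ q := (herm_conj p r hF).symm
  have hN : (α * α ^ q) ^ q = α * α ^ q := by rw [mul_pow, pow_q_q hF, mul_comm]
  have hU : rows ((l * α)⁻¹ • fn q r) (fn q p) * cols (l • p) ((α ^ q)⁻¹ • r) = 1 := rows_mul_cols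
    (by rw [smul_dotProduct, fn_dot, herm_smul_left, smul_eq_mul]; exact inv_mul_cancel₀ (mul_ne_zero hl0 h))
    (by rw [smul_dotProduct, fn_dot, herm_smul_left, hr, mul_zero, smul_zero])
    (by rw [fn_dot, herm_smul_left, hp, mul_zero])
    (by rw [fn_dot, herm_smul_left, hrp, inv_mul_cancel₀ hα])
  set φ : SpecialLinearGroup (Fin 2) L →* Matrix (Fin n) (Fin n) F :=
    (embed _ _ hU).comp (SpecialLinearGroup.map j)
  have hupF : ∀ c : L, φ (Lib.RootSubgroups.SL2.up c) = tm ((j c * l) • p) (fn q p) := by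
    intro c
    show embed _ _ hU (SpecialLinearGroup.map j _) = _
    rw [map_up, embed_up, smul_smul]
  have hlowF : ∀ c : L, φ (Lib.RootSubgroups.SL2.low c) =
      tm ((j c * ((α ^ q)⁻¹ * (l * α)⁻¹)) • r) (fn q r) := by
    intro c
    show embed _ _ hU (SpecialLinearGroup.map j _) = _
    rw [map_low, embed_low, tm, tm, smul_smul, vecMulVec_smul, ← smul_vecMulVec, smul_smul]
    congr 2
    ring_nf
  have hfix : ∀ c : L, j c ^ q = j c := fun c => (hj _).2 ⟨c, rfl⟩
  have htu : ∀ c : L, j c * l + (j c * l) ^ q = 0 := fun c => by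
    rw [mul_pow, hfix, hlq]; ring
  have htl : ∀ c : L,
      j c * ((α ^ q)⁻¹ * (l * α)⁻¹) + (j c * ((α ^ q)⁻¹ * (l * α)⁻¹)) ^ q = 0 := fun c => by
    rw [mul_pow, hfix, mul_pow, inv_pow, inv_pow, pow_q_q hF, mul_pow, hlq, neg_mul, inv_neg,
      mul_inv, mul_inv]
    ring
  have hmem : ∀ M, ∀ u v, hh (φ M *ᵥ u) (φ M *ᵥ v) = hh u v := by
    let H : Subgroup (SpecialLinearGroup (Fin 2) L) :=
      { carrier := {M | ∀ u v, hh (φ M *ᵥ u) (φ M *ᵥ v) = hh u v}
        one_mem' := fun u v => by rw [map_one, one_mulVec, one_mulVec]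
        mul_mem' := fun {a b} ha hb u v => by
          rw [map_mul, ← mulVec_mulVec, ← mulVec_mulVec, ha, hb]
        inv_mem' := fun {a} ha u v => by
          conv_rhs => rw [← one_mulVec u, ← one_mulVec v, ← map_one φ, ← mul_inv_cancel a,
            map_mul, ← mulVec_mulVec, ← mulVec_mulVec, ha] }
    have : H = ⊤ := by
      rw [eq_top_iff, ← Lib.RootSubgroups.SL2.generated, sup_le_iff]
      refine ⟨fun x hx => ?_, fun x hx => ?_⟩
      · obtain ⟨t, rfl⟩ := Lib.RootSubgroups.SL2.mem_lower.mp hx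
        intro u v
        rw [hlowF]; exact tm_preserves hF hr (htl t) u v
      · obtain ⟨t, rfl⟩ := Lib.RootSubgroups.SL2.mem_upper.mp hx
        intro u v
        rw [hupF]; exact tm_preserves hF hp (htu t) u v
    intro M
    exact (this ▸ Subgroup.mem_top M : M ∈ H)
  let f : SpecialLinearGroup (Fin 2) L →* G :=
    { toFun := fun M => ⟨⟨φ M, det_embed hU _⟩, hmem M⟩
      map_one' := ext_mat (map_one φ)
      map_mul' := fun M N => ext_mat (map_mul φ M N) }
  have hinj : Function.Injective f := fun M N e => by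
    have h1 : SpecialLinearGroup.map j M = SpecialLinearGroup.map j N :=
      embed_injective hU (congrArg (fun g : G => ↟g) e)
    apply Subtype.ext
    ext a b
    refine j.injective ?_
    exact congrFun (congrFun (congrArg Subtype.val h1) a) b
  refine pair_of_hom (f := f) hinj (fun g => ?_) (fun g => ?_)
  · constructor
    · rintro ⟨c, hc, hg⟩
      obtain ⟨a, ha⟩ := (hj (c / l)).1 (by
        rw [div_pow, hlq, show c ^ q = -c by linear_combination hc, neg_div_neg_eq])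
      refine ⟨a, ext_mat ((hupF a).trans ?_)⟩
      rw [hg, ha, div_mul_cancel₀ _ hl0]
    · rintro ⟨c, rfl⟩; exact ⟨_, htu c, hupF c⟩
  · constructor
    · rintro ⟨c, hc, hg⟩
      obtain ⟨a, ha⟩ := (hj (c * l * (α * α ^ q))).1 (by
        rw [mul_pow, mul_pow, hN, hlq, show c ^ q = -c by linear_combination hc]; ring)
      refine ⟨a, ext_mat ((hlowF a).trans ?_)⟩
      rw [hg, ha]
      congr 2
      field_simp
    · rintro ⟨c, rfl⟩; exact ⟨_, htl c, hlowF c⟩

theorem pair_cases (hF : Fintype.card F = q ^ 2) (hj : ∀ x : F, x ^ q = x ↔ ∃ c, j c = x)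
    {A B : Subgroup G} (hA : A ∈ family hF) (hB : B ∈ family hF) :
    ⁅A, B⁆ = ⊥ ∨ (IsRankOnePair A B ∧ IsPSL2PairOver L A B) := by
  obtain ⟨p, -, hp, rfl⟩ := hA
  obtain ⟨r, -, hr, rfl⟩ := hB
  by_cases h : hh p r = 0
  · exact Or.inl (commute_case hF hp hr h)
  · exact Or.inr (rankOne_case hF hj hp hr h)

/-- The members seen inside the subgroup they generate. -/
def inside (hF : Fintype.card F = q ^ 2) :
    Set (Subgroup ↥(⨆ B ∈ family (n := n) hF, B)) :=
  (fun A : Subgroup G => A.subgroupOf (⨆ B ∈ family hF, B)) '' family hF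

theorem kRoot (hF : Fintype.card F = q ^ 2) (hj : ∀ x : F, x ^ q = x ↔ ∃ c, j c = x) :
    IsKRootSubgroupSet L (inside (n := n) hF) :=
  Generated.kRoot (fun _ ⟨_, _, hp, e⟩ => e ▸ commutative hF hp)
    (fun _ ⟨_, h0, hp, e⟩ => e ▸ ne_bot hF h0 hp)
    (fun _ ⟨_, h0, hp, e⟩ g => e ▸ ⟨_, fun h => h0 (by
      have := congrArg (fun v => ↟(g⁻¹) *ᵥ v) h
      simp only [mulVec_mulVec, ← coe_mul', inv_mul_cancel, mulVec_zero] at this
      rw [← this]; exact (one_mulVec _).symm), isotropic_map g hp, conjBy_rootGp hF g hp⟩)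
    (fun _ hA _ hB => (pair_cases hF hj hA hB).imp id Or.inl)

theorem degenerate (hF : Fintype.card F = q ^ 2) (hj : ∀ x : F, x ^ q = x ↔ ∃ c, j c = x) :
    IsDegenerateRootSet (inside (n := n) hF) := by
  have hS := (kRoot (n := n) hF hj).1
  rintro _ ⟨A, hA, rfl⟩ _ ⟨B, hB, rfl⟩ hc
  have hle : ∀ A ∈ family (n := n) hF, A ≤ ⨆ B ∈ family hF, B := fun A hA =>
    le_iSup₂ (f := fun B (_ : B ∈ family hF) => B) A hA
  rcases pair_cases hF hj hA hB with h | ⟨h, -⟩
  · refine hS.ne_bot _ hc.1 ?_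
    rw [← Generated.subgroupOf_commutator (hle A hA) (hle B hB), h, Subgroup.bot_subgroupOf]
  · exact Lib.RootSubgroups.Root.not_commutatorCase hS ⟨B, hB, rfl⟩
      (Generated.rankOne_subgroupOf (hle A hA) (hle B hB) h) hc

theorem connected (hF : Fintype.card F = q ^ 2) (hj : ∀ x : F, x ^ q = x ↔ ∃ c, j c = x) :
    IsConnectedFamily (FAdj (inside (n := n) hF)) (inside hF) := by
  have hle : ∀ A ∈ family (n := n) hF, A ≤ ⨆ B ∈ family hF, B := fun A hA =>
    le_iSup₂ (f := fun B (_ : B ∈ family hF) => B) A hA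
  rintro _ ⟨_, ⟨p, hp0, hp, rfl⟩, rfl⟩ _ ⟨_, ⟨r, hr0, hr, rfl⟩, rfl⟩
  have adj : ∀ {u v : Fin n → F} (hu : hh u u = 0) (hv : hh v v = 0), u ≠ 0 → v ≠ 0 →
      hh u v ≠ 0 → FAdj (inside hF) ((rootGp hF hu).subgroupOf (⨆ B ∈ family hF, B))
        ((rootGp hF hv).subgroupOf (⨆ B ∈ family hF, B)) := by
    intro u v hu hv hu0 hv0 h
    have hA : rootGp hF hu ∈ family hF := ⟨u, hu0, hu, rfl⟩
    have hB : rootGp hF hv ∈ family hF := ⟨v, hv0, hv, rfl⟩
    exact ⟨⟨_, hA, rfl⟩, ⟨_, hB, rfl⟩,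
      Generated.rankOne_subgroupOf (hle _ hA) (hle _ hB) (rankOne_case hF hj hu hv h).1⟩
  have ne0 : ∀ {u v : Fin n → F}, hh u v ≠ 0 → v ≠ 0 := fun h e => h (by
    rw [e, ← zero_smul F (0 : Fin n → F), herm_smul_right, zero_pow_q hF, zero_mul])
  have two : ∀ {x : Fin n → F} (hx : hh x x = 0), hh p x ≠ 0 → hh x r ≠ 0 →
      Relation.ReflTransGen (FAdj (inside hF)) ((rootGp hF hp).subgroupOf (⨆ B ∈ family hF, B))
        ((rootGp hF hr).subgroupOf (⨆ B ∈ family hF, B)) := fun hx h1 h2 =>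
    (Relation.ReflTransGen.single (adj hp hx hp0 (ne0 h1) h1)).tail (adj hx hr (ne0 h1) hr0 h2)
  obtain ⟨f, hf⟩ := exists_hyp hF hp0 hp
  obtain ⟨g, hg⟩ := exists_hyp hF hr0 hr
  by_cases h1 : hh f r ≠ 0
  · exact two hf.2.1 (by rw [hf.2.2]; exact one_ne_zero) h1
  by_cases h2 : hh p g ≠ 0
  · exact two hg.2.1 h2 (by rw [hg.symm' hF]; exact one_ne_zero)
  push Not at h1 h2
  by_cases h3 : hh f g = 0
  · refine two (x := f + g) ?_ ?_ ?_
    · rw [herm_add_left, herm_add_right _ _ _ hF, herm_add_right _ _ _ hF, hf.2.1, hg.2.1, h3,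
        herm_eq_zero_symm hF h3]
      ring
    · rw [herm_add_right _ _ _ hF, hf.2.2, h2, add_zero]; exact one_ne_zero
    · rw [herm_add_left, h1, hg.symm' hF, zero_add]; exact one_ne_zero
  · have hpf : hh p f ≠ 0 := by rw [hf.2.2]; exact one_ne_zero
    have hgr : hh g r ≠ 0 := by rw [hg.symm' hF]; exact one_ne_zero
    exact ((Relation.ReflTransGen.single (adj hp hf.2.1 hp0 (ne0 hpf) hpf)).tail
      (adj hf.2.1 hg.2.1 (ne0 hpf) (ne0 h3) h3)).tail (adj hg.2.1 hr (ne0 h3) hr0 hgr)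

/-- In a connected set of root subgroups any two members are conjugate. -/
theorem exists_conj_of_path {H : Type*} [Group H] {S : Set (Subgroup H)}
    (hS : IsRootSubgroupSet S) {A B : Subgroup H} (h : Relation.ReflTransGen (FAdj S) A B) :
    ∃ g : H, B = conjBy A g := by
  induction h with
  | refl => exact ⟨1, (Lib.RootSubgroups.conjBy_one A).symm⟩
  | @tail B C _ hBC ih =>
    obtain ⟨g, rfl⟩ := ih
    obtain ⟨hB, -, hr⟩ := hBC
    obtain ⟨a, ha, ha1⟩ := Lib.RootSubgroups.exists_ne_one (hS.ne_bot _ hB)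
    obtain ⟨b, -, -, e⟩ := hr.cond_left a ha ha1
    refine ⟨a * b⁻¹ * g, ?_⟩
    have e' := congrArg (fun X => conjBy X a) e
    simp only [Lib.RootSubgroups.conjBy_conjBy, mul_inv_cancel, Lib.RootSubgroups.conjBy_one] at e'
    rw [mul_assoc]
    exact e'.symm

theorem conjClass (hF : Fintype.card F = q ^ 2) (hn : 2 ≤ n)
    (hj : ∀ x : F, x ^ q = x ↔ ∃ c, j c = x) : IsConjClassOfSubgroups (inside (n := n) hF) := by
  obtain ⟨e, f, he⟩ := exists_hyp_any (n := n) hF hn
  have he0 : e ≠ 0 := fun h => by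
    have := he.2.2
    rw [h, ← zero_smul F (0 : Fin n → F), herm_smul_left, zero_mul] at this
    exact zero_ne_one this
  exact ⟨⟨_, _, ⟨e, he0, he.1, rfl⟩, rfl⟩, fun A hA B hB =>
    exists_conj_of_path (kRoot hF hj).1 (connected hF hj A hA B hB)⟩

end Field

theorem exists_fixed (hF : Fintype.card F = q ^ 2) :
    ∃ (L : Type) (_ : Field L) (_ : Fintype L), Fintype.card L = q ∧
      ∃ j : L →+* F, ∀ x : F, x ^ q = x ↔ ∃ c, j c = x := by
  obtain ⟨p, k, hp, -, hk, hq⟩ := q_eq_primePow hF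
  have := Fact.mk hp
  let K : Subfield F := (conj hF).eqLocusField (RingHom.id F)
  have : Fintype K := Fintype.ofFinite K
  have hK : Fintype.card K = q := by
    rw [← Nat.card_eq_fintype_card]; exact card_fixed hF
  have : Fintype (GaloisField p k) := Fintype.ofFinite _
  have hG : Fintype.card (GaloisField p k) = q := by
    rw [← Nat.card_eq_fintype_card, GaloisField.card p k (by omega), hq]
  let e := FiniteField.ringEquivOfCardEq (K := GaloisField p k) (K' := K) (hG.trans hK.symm)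
  refine ⟨GaloisField p k, inferInstance, inferInstance, hG, K.subtype.comp e.toRingHom,
    fun x => ⟨fun hx => ⟨e.symm ⟨x, hx⟩, ?_⟩, ?_⟩⟩
  · show ((e (e.symm ⟨x, hx⟩) : K) : F) = x
    rw [RingEquiv.apply_symm_apply]
  · rintro ⟨c, rfl⟩
    exact (e c).2

theorem closure_eq (hF : Fintype.card F = q ^ 2) {p : Fin n → F} (hp0 : p ≠ 0)
    (hp : hh p p = 0) :
    Subgroup.closure {g : G | (∀ v : Fin n → F, ∃ c : F, ↟g *ᵥ v = v + c • p) ∧
      ∀ v : Fin n → F, hh v p = 0 → ↟g *ᵥ v = v} = rootGp hF hp := by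
  refine le_antisymm ((Subgroup.closure_le _).mpr fun g ⟨h1, h2⟩ => ?_) fun g ⟨c, _, hg⟩ =>
    Subgroup.subset_closure ⟨fun v => ⟨hh v p * c, by rw [hg, tm_herm]⟩, fun v hv => by
      rw [hg, tm_herm, hv, zero_mul, zero_smul, add_zero]⟩
  obtain ⟨f, hf⟩ := exists_hyp hF hp0 hp
  obtain ⟨c, hc⟩ := h1 f
  refine ⟨c, ?_, Matrix.mulVec_injective (funext fun v => ?_)⟩
  · have := iso_h g f f
    rw [hc] at this
    simp only [herm_add_left, herm_add_right _ _ _ hF, herm_smul_left, herm_smul_right, hp, hf.2.1,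
      hf.2.2, hf.symm' hF, mul_zero, mul_one, add_zero, zero_add] at this
    linear_combination this
  · show _ *ᵥ v = _ *ᵥ v
    have h3 := h2 (v + (-hh v p) • f) (by
      rw [herm_add_left, herm_smul_left, hf.symm' hF]; ring)
    rw [mulVec_add, mulVec_smul, hc] at h3
    rw [tm_herm]
    linear_combination (norm := module) h3

theorem set_eq (hF : Fintype.card F = q ^ 2) :
    {A : Subgroup G | ∃ p : Fin n → F, p ≠ 0 ∧ hh p p = 0 ∧
      A = Subgroup.closure {g : G | (∀ v : Fin n → F, ∃ c : F, ↟g *ᵥ v = v + c • p) ∧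
        ∀ v : Fin n → F, hh v p = 0 → ↟g *ᵥ v = v}} = family hF := by
  ext A
  constructor
  · rintro ⟨p, hp0, hp, rfl⟩
    exact ⟨p, hp0, hp, closure_eq hF hp0 hp⟩
  · rintro ⟨p, hp0, hp, rfl⟩
    exact ⟨p, hp0, hp, (closure_eq hF hp0 hp).symm⟩

end Cfsg.Agent.Lib.RootModels.SUPairs
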