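import Cfsg.Agent.Lib.RootSubgroups.SL2
import Cfsg.Agent.Lib.RootSubgroups.Basic

/-!
Transvections `1 + v φᵀ` on an arbitrary finite index type, the copy of `SL₂` attached to two
vectors with a dual pair of functionals, and images of `SL₂` as rank one pairs.
-/

set_option autoImplicit false

namespace Cfsg.Agent.Lib.RootModels

open Cfsg Matrix

variable {ι : Type*} [Fintype ι] [DecidableEq ι] {k : Type*} [Field k]

/-- The matrix `1 + v φᵀ`. -/
def tm (v φ : ι → k) : Matrix ι ι k := 1 + vecMulVec v φ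

theorem tm_mulVec (v φ x : ι → k) : tm v φ *ᵥ x = x + (φ ⬝ᵥ x) • v := by
  rw [tm, add_mulVec, one_mulVec, vecMulVec_mulVec, op_smul_eq_smul]

theorem tm_mul_tm {v φ w ψ : ι → k} (h : φ ⬝ᵥ w = 0) :
    tm v φ * tm w ψ = 1 + vecMulVec v φ + vecMulVec w ψ := by
  rw [tm, tm, add_mul, one_mul, mul_add, mul_one, vecMulVec_mul_vecMulVec, h, zero_smul,
    vecMulVec_zero, add_zero]
  abel

theorem tm_add {v w φ : ι → k} (h : φ ⬝ᵥ w = 0) : tm v φ * tm w φ = tm (v + w) φ := by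
  rw [tm_mul_tm h, tm, add_vecMulVec, add_assoc]

theorem tm_comm {v φ w ψ : ι → k} (h : φ ⬝ᵥ w = 0) (h' : ψ ⬝ᵥ v = 0) :
    tm v φ * tm w ψ = tm w ψ * tm v φ := by
  rw [tm_mul_tm h, tm_mul_tm h']; abel

theorem tm_zero (φ : ι → k) : tm (0 : ι → k) φ = 1 := by
  rw [tm, zero_vecMulVec, add_zero]

theorem det_tm {v φ : ι → k} (h : φ ⬝ᵥ v = 0) : (tm v φ).det = 1 := by
  rw [tm, vecMulVec_eq Unit, det_one_add_replicateCol_mul_replicateRow, h, add_zero]

theorem mul_tm {v φ v' φ' : ι → k} {g : Matrix ι ι k}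
    (h1 : g *ᵥ v = v') (h2 : φ' ᵥ* g = φ) : g * tm v φ = tm v' φ' * g := by
  rw [tm, tm, mul_add, add_mul, mul_one, one_mul, mul_vecMulVec, vecMulVec_mul, h1, h2]

/-- The product formula behind the commutator case. -/
theorem tm_swap {v φ w ψ : ι → k} (hv : ψ ⬝ᵥ v = 0) (hw : ψ ⬝ᵥ w = 0) :
    tm v φ * tm w ψ = tm ((φ ⬝ᵥ w) • v) ψ * (tm w ψ * tm v φ) := by
  simp only [tm, mul_add, add_mul, one_mul, mul_one, smul_mul_assoc, vecMulVec_mul_vecMulVec, hv, hw,
    zero_smul, smul_zero, vecMulVec_zero, add_zero, smul_vecMulVec, vecMulVec_smul]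
  abel

/-- Two functionals simultaneously non-zero somewhere. -/
theorem exists_both {V : Type*} [AddCommGroup V] [Module k V] (f g : V →ₗ[k] k) (hf : ∃ a, f a ≠ 0)
    (hg : ∃ b, g b ≠ 0) : ∃ x, f x ≠ 0 ∧ g x ≠ 0 := by
  obtain ⟨a, ha⟩ := hf
  obtain ⟨b, hb⟩ := hg
  by_cases h1 : g a = 0
  · by_cases h2 : f b = 0
    · exact ⟨a + b, by simpa [h2] using ha, by simpa [h1] using hb⟩
    · exact ⟨b, h2, hb⟩
  · exact ⟨a, ha, h1⟩

/-! ### The copy of `SL₂` -/

/-- `1 + U (M - 1) L`. -/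
def embed (U : Matrix ι (Fin 2) k) (L : Matrix (Fin 2) ι k) (h : L * U = 1) :
    SpecialLinearGroup (Fin 2) k →* Matrix ι ι k where
  toFun M := 1 + U * ((M : Matrix (Fin 2) (Fin 2) k) - 1) * L
  map_one' := by simp
  map_mul' M N := by
    set A := (M : Matrix (Fin 2) (Fin 2) k) - 1
    set B := (N : Matrix (Fin 2) (Fin 2) k) - 1
    have e : U * A * L * (U * B * L) = U * (A * B) * L := by
      calc U * A * L * (U * B * L) = U * A * (L * U) * (B * L) := by
            simp only [Matrix.mul_assoc]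
        _ = U * (A * B) * L := by rw [h, Matrix.mul_one]; simp only [Matrix.mul_assoc]
    have e' : ((M * N : SpecialLinearGroup (Fin 2) k) : Matrix (Fin 2) (Fin 2) k) - 1 =
        A + B + A * B := by
      show (M : Matrix (Fin 2) (Fin 2) k) * (N : Matrix (Fin 2) (Fin 2) k) - 1 = _
      simp only [A, B, sub_mul, mul_sub, one_mul, mul_one]
      abel
    rw [e']
    simp only [Matrix.mul_add, Matrix.add_mul, Matrix.one_mul, Matrix.mul_one, e]
    abel

/-- The matrix with columns `v`, `w`. -/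
def cols (v w : ι → k) : Matrix ι (Fin 2) k := Matrix.of fun i j => ![v, w] j i

/-- The matrix with rows `ψ`, `φ`. -/
def rows (ψ φ : ι → k) : Matrix (Fin 2) ι k := Matrix.of fun j i => ![ψ, φ] j i

variable {v w ψ φ : ι → k}

theorem rows_mul_cols (h00 : ψ ⬝ᵥ v = 1) (h01 : ψ ⬝ᵥ w = 0) (h10 : φ ⬝ᵥ v = 0)
    (h11 : φ ⬝ᵥ w = 1) : rows ψ φ * cols v w = 1 := by
  simp only [dotProduct] at h00 h01 h10 h11
  ext a b
  fin_cases a <;> fin_cases b <;> simp [rows, cols, Matrix.mul_apply, h00, h01, h10, h11]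

theorem embed_up (h : rows ψ φ * cols v w = 1) (c : k) :
    embed _ _ h (Lib.RootSubgroups.SL2.up c) = tm (c • v) φ := by
  ext i j
  simp [embed, tm, cols, rows, Matrix.mul_apply, vecMulVec_apply, Fin.sum_univ_two, Matrix.sub_apply,
    Matrix.one_apply]
  ring

theorem embed_low (h : rows ψ φ * cols v w = 1) (c : k) :
    embed _ _ h (Lib.RootSubgroups.SL2.low c) = tm (c • w) ψ := by
  ext i j
  simp [embed, tm, cols, rows, Matrix.mul_apply, vecMulVec_apply, Fin.sum_univ_two, Matrix.sub_apply,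
    Matrix.one_apply]
  ring

theorem embed_injective {U : Matrix ι (Fin 2) k} {L : Matrix (Fin 2) ι k} (h : L * U = 1) :
    Function.Injective (embed U L h) := by
  intro M N e
  have key : ∀ A : Matrix (Fin 2) (Fin 2) k, L * (1 + U * (A - 1) * L) * U = A := fun A => by
    rw [Matrix.mul_add, Matrix.add_mul, Matrix.mul_one, h]
    rw [show L * (U * (A - 1) * L) * U = L * U * (A - 1) * (L * U) by simp only [Matrix.mul_assoc],
      h, one_mul, mul_one, add_sub_cancel]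
  apply Subtype.ext
  rw [← key (M : Matrix (Fin 2) (Fin 2) k), ← key (N : Matrix (Fin 2) (Fin 2) k)]
  exact congrArg (fun A => L * A * U) e

theorem det_embed {U : Matrix ι (Fin 2) k} {L : Matrix (Fin 2) ι k} (h : L * U = 1)
    (M : SpecialLinearGroup (Fin 2) k) : (embed U L h M).det = 1 := by
  show (1 + U * ((M : Matrix (Fin 2) (Fin 2) k) - 1) * L).det = 1
  rw [Matrix.mul_assoc, det_one_add_mul_comm, Matrix.mul_assoc, h, Matrix.mul_one, add_sub_cancel]
  exact M.2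

/-! ### Images of `SL₂` -/

variable {G : Type*} [Group G]

theorem pair_of_hom {f : SpecialLinearGroup (Fin 2) k →* G} (hf : Function.Injective f)
    {A B : Subgroup G} (hA : ∀ g, g ∈ A ↔ ∃ c, f (Lib.RootSubgroups.SL2.up c) = g)
    (hB : ∀ g, g ∈ B ↔ ∃ c, f (Lib.RootSubgroups.SL2.low c) = g) :
    IsRankOnePair A B ∧ IsPSL2PairOver k A B := by
  have eA : (upperUnipotentSL2 k).map f = A := by
    ext g
    rw [hA, Subgroup.mem_map]
    simp only [Lib.RootSubgroups.SL2.mem_upper]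
    exact ⟨fun ⟨x, ⟨t, ht⟩, e⟩ => ⟨t, ht ▸ e⟩, fun ⟨c, e⟩ => ⟨_, ⟨c, rfl⟩, e⟩⟩
  have eB : (lowerUnipotentSL2 k).map f = B := by
    ext g
    rw [hB, Subgroup.mem_map]
    simp only [Lib.RootSubgroups.SL2.mem_lower]
    exact ⟨fun ⟨x, ⟨t, ht⟩, e⟩ => ⟨t, ht ▸ e⟩, fun ⟨c, e⟩ => ⟨_, ⟨c, rfl⟩, e⟩⟩
  refine ⟨eA ▸ eB ▸ Lib.RootSubgroups.RankOne.map_of_injective f hf
    (RankOnePair_symm Lib.RootSubgroups.SL2.rankOne), f, ?_, ?_, eA, eB⟩
  · rw [MonoidHom.range_eq_map, ← Lib.RootSubgroups.SL2.generated, Subgroup.map_sup, eA, eB,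
      sup_comm]
  · rw [(MonoidHom.ker_eq_bot_iff f).mpr hf]
    exact bot_le

end Cfsg.Agent.Lib.RootModels
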