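import Cfsg.Agent.Lib.RootModels.Embed
import Cfsg.Agent.Lib.TransvectionClass
import Cfsg.Agent.Lib.Linear.Transvection

/-!
The point-hyperplane transvection subgroups of `SL_n`.
-/

set_option autoImplicit false

namespace Cfsg.Agent.Lib.RootModels.SLPairs

open Cfsg Matrix Cfsg.Agent.Lib.TransvectionClass

variable {n : ℕ} {k : Type*} [Field k]

local notation "SL" => Matrix.SpecialLinearGroup (Fin n) k

theorem coe_mul' (a b : SL) :
    ((a * b : SL) : Matrix (Fin n) (Fin n) k) = (a : Matrix (Fin n) (Fin n) k) * b := rfl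

theorem coe_one' : ((1 : SL) : Matrix (Fin n) (Fin n) k) = 1 := rfl

/-- The transvection as an element of `SL`. -/
def tv {v φ : Fin n → k} (h : φ ⬝ᵥ v = 0) : SL := ⟨tm v φ, det_tm h⟩

theorem dot_smul {v φ : Fin n → k} (h : φ ⬝ᵥ v = 0) (c : k) : φ ⬝ᵥ (c • v) = 0 := by
  rw [dotProduct_smul, h, smul_zero]

/-- The root subgroup of a point and a hyperplane through it. -/
def rootGp (v φ : Fin n → k) (h : φ ⬝ᵥ v = 0) : Subgroup SL where
  carrier := {g | ∃ c : k, (g : Matrix (Fin n) (Fin n) k) = tm (c • v) φ}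
  one_mem' := ⟨0, by rw [zero_smul, tm_zero]; rfl⟩
  mul_mem' := by
    rintro a b ⟨c, hc⟩ ⟨d, hd⟩
    refine ⟨c + d, ?_⟩
    rw [coe_mul', hc, hd, tm_add (dot_smul h d), add_smul]
  inv_mem' := by
    rintro a ⟨c, hc⟩
    refine ⟨-c, ?_⟩
    have : a⁻¹ = tv (dot_smul h (-c)) := inv_eq_of_mul_eq_one_right (Subtype.ext (by
      rw [coe_mul', hc]
      show tm (c • v) φ * tm ((-c) • v) φ = 1
      rw [tm_add (dot_smul h _), neg_smul, add_neg_cancel, tm_zero]))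
    rw [this]; rfl

theorem mem_rootGp {v φ : Fin n → k} {h : φ ⬝ᵥ v = 0} {g : SL} :
    g ∈ rootGp v φ h ↔ ∃ c : k, (g : Matrix (Fin n) (Fin n) k) = tm (c • v) φ := Iff.rfl

theorem ne_bot {v φ : Fin n → k} (h : IsPair v φ) : rootGp v φ h.2.2 ≠ ⊥ := fun e => by
  have h1 : tv h.2.2 ∈ rootGp v φ h.2.2 := ⟨1, by rw [one_smul]; rfl⟩
  rw [e, Subgroup.mem_bot] at h1
  have h2 : tm v φ = (1 : Matrix (Fin n) (Fin n) k) := congrArg Subtype.val h1
  obtain ⟨a, ha⟩ := exists_dot_eq_one h.2.1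
  have h3 := congrArg (fun M : Matrix (Fin n) (Fin n) k => M *ᵥ a) h2
  simp only [tm_mulVec, ha, one_smul, one_mulVec, add_eq_left] at h3
  exact h.1 h3

theorem conj_tv {v φ : Fin n → k} (g : SL) {t : SL} {c : k}
    (ht : (t : Matrix (Fin n) (Fin n) k) = tm (c • v) φ) :
    ((g * t * g⁻¹ : SL) : Matrix (Fin n) (Fin n) k) =
      tm (c • ((g : Matrix (Fin n) (Fin n) k) *ᵥ v))
        (φ ᵥ* ((g⁻¹ : SL) : Matrix (Fin n) (Fin n) k)) := by
  have hinv : ((g⁻¹ : SL) : Matrix (Fin n) (Fin n) k) * (g : Matrix (Fin n) (Fin n) k) = 1 := by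
    rw [← coe_mul', inv_mul_cancel, coe_one']
  rw [coe_mul', coe_mul', ht,
    mul_tm (mulVec_smul _ c v) (show (φ ᵥ* ((g⁻¹ : SL) : Matrix (Fin n) (Fin n) k)) ᵥ*
      (g : Matrix (Fin n) (Fin n) k) = φ by rw [vecMul_vecMul, hinv, vecMul_one]),
    Matrix.mul_assoc, ← coe_mul', mul_inv_cancel, coe_one',
    Matrix.mul_one]

theorem pair_map {v φ : Fin n → k} (h : IsPair v φ) (g : SL) :
    IsPair ((g : Matrix (Fin n) (Fin n) k) *ᵥ v)
      (φ ᵥ* ((g⁻¹ : SL) : Matrix (Fin n) (Fin n) k)) := by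
  have hinv : ((g⁻¹ : SL) : Matrix (Fin n) (Fin n) k) * (g : Matrix (Fin n) (Fin n) k) = 1 := by
    rw [← coe_mul', inv_mul_cancel, coe_one']
  refine ⟨fun e => h.1 ?_, fun e => h.2.1 ?_, ?_⟩
  · rw [← one_mulVec v, ← hinv, ← mulVec_mulVec, e, mulVec_zero]
  · rw [← vecMul_one φ, ← hinv, ← vecMul_vecMul, e, zero_vecMul]
  · rw [← dotProduct_mulVec, mulVec_mulVec, hinv, one_mulVec, h.2.2]

theorem conjBy_rootGp {v φ : Fin n → k} (h : IsPair v φ) (g : SL) :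
    conjBy (rootGp v φ h.2.2) g = rootGp _ _ (pair_map h g).2.2 := by
  ext x
  rw [Lib.RootSubgroups.mem_conjBy]
  constructor
  · rintro ⟨c, hc⟩
    refine ⟨c, ?_⟩
    rw [show x = g * (g⁻¹ * x * g) * g⁻¹ by group, conj_tv g hc]
  · rintro ⟨c, hc⟩
    refine ⟨c, ?_⟩
    have e := conj_tv (v := v) (φ := φ) g (t := tv (dot_smul h.2.2 c)) (c := c) rfl
    rw [show x = g * tv (dot_smul h.2.2 c) * g⁻¹ from Subtype.ext (hc.trans e.symm)]
    rw [show g⁻¹ * (g * tv (dot_smul h.2.2 c) * g⁻¹) * g = tv (dot_smul h.2.2 c) by group]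
    rfl

/-- `SL` is transitive on centre–axis pairs for `n ≥ 3`. -/
theorem exists_sl_map (hn : 3 ≤ n) {v φ v' φ' : Fin n → k} (h : IsPair v φ) (h' : IsPair v' φ') :
    ∃ g : SL, (g : Matrix (Fin n) (Fin n) k) *ᵥ v = v' ∧
      φ ᵥ* ((g⁻¹ : SL) : Matrix (Fin n) (Fin n) k) = φ' := by
  obtain ⟨g, hgv, hgφ⟩ := exists_map_pair h h'
  obtain ⟨D, hDd, hDv, hDφ⟩ := exists_det_fix h hn ((g : Matrix (Fin n) (Fin n) k).det)⁻¹
  have hd : (g : Matrix (Fin n) (Fin n) k).det ≠ 0 := Matrix.GeneralLinearGroup.det_ne_zero g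
  let x : SL := ⟨g * D, by rw [det_mul, hDd, mul_inv_cancel₀ hd]⟩
  refine ⟨x, ?_, ?_⟩
  · show ((g : Matrix (Fin n) (Fin n) k) * D) *ᵥ v = v'
    rw [← mulVec_mulVec, hDv, hgv]
  · have e : φ' ᵥ* (x : Matrix (Fin n) (Fin n) k) = φ := by
      show φ' ᵥ* ((g : Matrix (Fin n) (Fin n) k) * D) = φ
      rw [← vecMul_vecMul, hgφ, hDφ]
    rw [← e, vecMul_vecMul, ← coe_mul', mul_inv_cancel, coe_one',
      vecMul_one]

/-- The family of all root subgroups. -/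
def family (n : ℕ) (k : Type*) [Field k] : Set (Subgroup (Matrix.SpecialLinearGroup (Fin n) k)) :=
  {A | ∃ v φ, ∃ h : IsPair v φ, A = rootGp v φ h.2.2}

theorem commute_case {v φ w ψ : Fin n → k} (hv : φ ⬝ᵥ v = 0) (hw : ψ ⬝ᵥ w = 0)
    (h1 : φ ⬝ᵥ w = 0) (h2 : ψ ⬝ᵥ v = 0) : ⁅rootGp v φ hv, rootGp w ψ hw⁆ = ⊥ :=
  Lib.RootSubgroups.commutator_eq_bot_of_comm fun a ⟨c, hc⟩ b ⟨d, hd⟩ => Subtype.ext (by
    rw [coe_mul', coe_mul', hc, hd]
    exact tm_comm (dot_smul h1 d) (dot_smul h2 c))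

theorem rankOne_case {v φ w ψ : Fin n → k} (hv : φ ⬝ᵥ v = 0) (hw : ψ ⬝ᵥ w = 0)
    (h1 : φ ⬝ᵥ w ≠ 0) (h2 : ψ ⬝ᵥ v ≠ 0) :
    IsRankOnePair (rootGp v φ hv) (rootGp w ψ hw) ∧
      IsPSL2PairOver k (rootGp v φ hv) (rootGp w ψ hw) := by
  set α := φ ⬝ᵥ w
  set β := ψ ⬝ᵥ v
  have hU : rows (β⁻¹ • ψ) φ * cols v (α⁻¹ • w) = 1 := rows_mul_cols
    (by rw [smul_dotProduct, smul_eq_mul, inv_mul_cancel₀ h2])
    (by rw [smul_dotProduct, dotProduct_smul, hw, smul_zero, smul_zero]) hv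
    (by rw [dotProduct_smul, smul_eq_mul, inv_mul_cancel₀ h1])
  let f : SpecialLinearGroup (Fin 2) k →* SL :=
    { toFun := fun M => ⟨embed _ _ hU M, det_embed hU M⟩
      map_one' := Subtype.ext (map_one (embed _ _ hU))
      map_mul' := fun M N => Subtype.ext (map_mul (embed _ _ hU) M N) }
  have hs : ∀ (c : k), (c • α⁻¹ • w : Fin n → k) = (c * α⁻¹) • w := fun c => smul_smul _ _ _
  refine pair_of_hom (f := f) (fun M N e => embed_injective hU (congrArg Subtype.val e))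
    (fun g => ?_) (fun g => ?_)
  · constructor
    · rintro ⟨c, hc⟩; exact ⟨c, Subtype.ext ((embed_up hU c).trans hc.symm)⟩
    · rintro ⟨c, rfl⟩; exact ⟨c, embed_up hU c⟩
  · have key : ∀ c : k, embed _ _ hU (Lib.RootSubgroups.SL2.low c) = tm ((c * α⁻¹ * β⁻¹) • w) ψ := by
      intro c
      rw [embed_low, hs, tm, tm, vecMulVec_smul, smul_vecMulVec, smul_vecMulVec, smul_smul,
        mul_comm β⁻¹]
    constructor
    · rintro ⟨c, hc⟩
      refine ⟨c * α * β, Subtype.ext ((key _).trans ?_)⟩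
      rw [hc]
      congr 2
      field_simp
    · rintro ⟨c, rfl⟩; exact ⟨_, key c⟩

theorem commutator_case {v φ w ψ : Fin n → k} (hv : IsPair v φ) (hw : IsPair w ψ)
    (h1 : φ ⬝ᵥ w ≠ 0) (h2 : ψ ⬝ᵥ v = 0) :
    RootCommutatorCase (family n k) (rootGp v φ hv.2.2) (rootGp w ψ hw.2.2) := by
  set C := rootGp v ψ h2
  have hcomm : ∀ a ∈ rootGp v φ hv.2.2, ∀ b ∈ rootGp w ψ hw.2.2, ∀ c d : k,
      (a : Matrix (Fin n) (Fin n) k) = tm (c • v) φ → (b : Matrix (Fin n) (Fin n) k) = tm (d • w) ψ →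
      ((a * b * a⁻¹ * b⁻¹ : SL) : Matrix (Fin n) (Fin n) k) = tm ((c * d * (φ ⬝ᵥ w)) • v) ψ := by
    intro a _ b _ c d hc hd
    let t : SL := tv (dot_smul h2 (c * d * (φ ⬝ᵥ w)))
    have e : a * b = t * (b * a) := Subtype.ext (by
      rw [coe_mul', coe_mul', coe_mul', hc, hd]
      show _ = tm ((c * d * (φ ⬝ᵥ w)) • v) ψ * _
      rw [tm_swap (dot_smul h2 c) (dot_smul hw.2.2 d), dotProduct_smul, smul_eq_mul, smul_smul]
      congr 3; ring)
    rw [e, show t * (b * a) * a⁻¹ * b⁻¹ = t by group]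
    rfl
  have hle : ⁅rootGp v φ hv.2.2, rootGp w ψ hw.2.2⁆ ≤ C := by
    rw [Subgroup.commutator_le]
    rintro a ⟨c, hc⟩ b ⟨d, hd⟩
    rw [commutatorElement_def]
    exact ⟨_, hcomm a ⟨c, hc⟩ b ⟨d, hd⟩ c d hc hd⟩
  have hA : ∀ a ∈ rootGp v φ hv.2.2, a ≠ 1 →
      C ≤ Subgroup.closure ((fun b : SL => a * b * a⁻¹ * b⁻¹) '' (rootGp w ψ hw.2.2 : Set SL)) := by
    rintro a ⟨c, hc⟩ ha g ⟨e, he⟩
    have hc0 : c ≠ 0 := fun h => ha (Subtype.ext (by rw [hc, h, zero_smul, tm_zero]; rfl))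
    let d := e / (c * (φ ⬝ᵥ w))
    refine Subgroup.subset_closure ⟨tv (dot_smul hw.2.2 d), ⟨d, rfl⟩, Subtype.ext ?_⟩
    rw [hcomm a ⟨c, hc⟩ _ ⟨d, rfl⟩ c d hc rfl, he]
    congr 2
    simp only [d]; field_simp
  have hB : ∀ b ∈ rootGp w ψ hw.2.2, b ≠ 1 →
      C ≤ Subgroup.closure ((fun a : SL => a * b * a⁻¹ * b⁻¹) '' (rootGp v φ hv.2.2 : Set SL)) := by
    rintro b ⟨d, hd⟩ hb g ⟨e, he⟩
    have hd0 : d ≠ 0 := fun h => hb (Subtype.ext (by rw [hd, h, zero_smul, tm_zero]; rfl))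
    let c := e / (d * (φ ⬝ᵥ w))
    refine Subgroup.subset_closure ⟨tv (dot_smul hv.2.2 c), ⟨c, rfl⟩, Subtype.ext ?_⟩
    rw [hcomm _ ⟨c, rfl⟩ b ⟨d, hd⟩ c d rfl hd, he]
    congr 2
    simp only [c]; field_simp
  have heq : ⁅rootGp v φ hv.2.2, rootGp w ψ hw.2.2⁆ = C := by
    refine le_antisymm hle ?_
    obtain ⟨a, ha, ha1⟩ := Lib.RootSubgroups.exists_ne_one (ne_bot hv)
    refine (hA a ha ha1).trans ((Subgroup.closure_le _).mpr ?_)
    rintro _ ⟨b, hb, rfl⟩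
    have := Subgroup.commutator_mem_commutator ha hb
    rwa [commutatorElement_def] at this
  refine ⟨heq ▸ ⟨v, ψ, ⟨hv.1, hw.2.1, h2⟩, rfl⟩, ?_, ?_, ?_⟩
  · rw [heq]
    intro z hz x hx
    obtain ⟨e, he⟩ := hz
    refine Lib.RootSubgroups.comm_sup (fun a ha => ?_) (fun b hb => ?_) x hx
    · obtain ⟨c, hc⟩ := ha
      exact Subtype.ext (by
        rw [coe_mul', coe_mul', he, hc]
        exact tm_comm (dot_smul h2 c) (dot_smul hv.2.2 e))
    · obtain ⟨d, hd⟩ := hb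
      exact Subtype.ext (by
        rw [coe_mul', coe_mul', he, hd]
        exact tm_comm (dot_smul hw.2.2 d) (dot_smul h2 e))
  · intro a ha ha1
    refine le_antisymm ((Subgroup.closure_le _).mpr ?_) (heq ▸ hA a ha ha1)
    rintro _ ⟨b, hb, rfl⟩
    have := Subgroup.commutator_mem_commutator ha hb
    rwa [commutatorElement_def] at this
  · intro b hb hb1
    refine le_antisymm ((Subgroup.closure_le _).mpr ?_) (heq ▸ hB b hb hb1)
    rintro _ ⟨a, ha, rfl⟩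
    have := Subgroup.commutator_mem_commutator ha hb
    rwa [commutatorElement_def] at this

theorem transvection_eq {i j : Fin n} (c : k) :
    Matrix.transvection i j c = tm (c • Pi.single i (1 : k)) (Pi.single j 1) := by
  ext a b
  simp only [Matrix.transvection, tm, Matrix.add_apply, Matrix.single_apply, vecMulVec_apply,
    Pi.smul_apply, Pi.single_apply, smul_eq_mul]
  split_ifs with h h1 h2 <;> simp_all

theorem single_pair {i j : Fin n} (hij : i ≠ j) :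
    IsPair (Pi.single i (1 : k)) (Pi.single j 1) :=
  ⟨by simp, by simp, by simp [hij.symm]⟩

theorem rootSubgroupSet : IsRootSubgroupSet (family n k) := by
  refine ⟨?_, ?_, ?_, ?_, ?_⟩
  · rintro _ ⟨v, φ, h, rfl⟩
    refine ⟨⟨fun ⟨a, c, hc⟩ ⟨b, d, hd⟩ => Subtype.ext (Subtype.ext ?_)⟩⟩
    show (a : Matrix (Fin n) (Fin n) k) * b = (b : Matrix (Fin n) (Fin n) k) * a
    rw [hc, hd]
    exact tm_comm (dot_smul h.2.2 d) (dot_smul h.2.2 c)
  · rintro _ ⟨v, φ, h, rfl⟩; exact ne_bot h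
  · refine Lib.Linear.sl_eq_top_of_transvection_mem _ fun i j hij c => ?_
    have hm : Matrix.SpecialLinearGroup.transvection hij c ∈
        rootGp (Pi.single i (1 : k)) (Pi.single j 1) (single_pair hij).2.2 :=
      ⟨c, by rw [Matrix.SpecialLinearGroup.transvection_coe]; exact transvection_eq c⟩
    exact Subgroup.mem_iSup_of_mem _ (Subgroup.mem_iSup_of_mem
      (show _ ∈ family n k from ⟨_, _, single_pair hij, rfl⟩) hm)
  · rintro _ ⟨v, φ, h, rfl⟩ g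
    exact ⟨_, _, pair_map h g, conjBy_rootGp h g⟩
  · rintro _ ⟨v, φ, hv, rfl⟩ _ ⟨w, ψ, hw, rfl⟩
    by_cases h1 : φ ⬝ᵥ w = 0 <;> by_cases h2 : ψ ⬝ᵥ v = 0
    · exact Or.inl (commute_case hv.2.2 hw.2.2 h1 h2)
    · exact Or.inr (Or.inr (Lib.RootSubgroups.Root.rcc_symm (commutator_case hw hv h2 h1)))
    · exact Or.inr (Or.inr (commutator_case hv hw h1 h2))
    · exact Or.inr (Or.inl (rankOne_case hv.2.2 hw.2.2 h1 h2).1)

theorem kRoot : IsKRootSubgroupSet k (family n k) := by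
  refine ⟨rootSubgroupSet, ?_⟩
  rintro _ ⟨v, φ, hv, rfl⟩ _ ⟨w, ψ, hw, rfl⟩ hr
  have hB : rootGp w ψ hw.2.2 ∈ family n k := ⟨w, ψ, hw, rfl⟩
  by_cases h1 : φ ⬝ᵥ w = 0 <;> by_cases h2 : ψ ⬝ᵥ v = 0
  · exact absurd (commute_case hv.2.2 hw.2.2 h1 h2) (Lib.RootSubgroups.RankOne.not_commute hr)
  · exact absurd (Lib.RootSubgroups.Root.rcc_symm (commutator_case hw hv h2 h1))
      (Lib.RootSubgroups.Root.not_commutatorCase rootSubgroupSet hB hr)
  · exact absurd (commutator_case hv hw h1 h2)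
      (Lib.RootSubgroups.Root.not_commutatorCase rootSubgroupSet hB hr)
  · exact (rankOne_case hv.2.2 hw.2.2 h1 h2).2

theorem conjClass (hn : 3 ≤ n) : IsConjClassOfSubgroups (family n k) := by
  refine ⟨⟨_, _, _, single_pair (i := (⟨0, by omega⟩ : Fin n)) (j := ⟨1, by omega⟩) (by simp), rfl⟩, ?_⟩
  rintro _ ⟨v, φ, hv, rfl⟩ _ ⟨w, ψ, hw, rfl⟩
  obtain ⟨g, h1, h2⟩ := exists_sl_map hn hv hw
  refine ⟨g, ?_⟩
  rw [conjBy_rootGp hv g]
  congr 1 <;> simp only [h1, h2]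

theorem nondegenerate (hn : 3 ≤ n) : IsNondegenerateRootSet (family n k) := by
  let a : Fin n := ⟨0, by omega⟩
  let b : Fin n := ⟨1, by omega⟩
  let c : Fin n := ⟨2, by omega⟩
  have hab : a ≠ b := by simp [a, b]
  have hac : a ≠ c := by simp [a, c]
  have hbc : b ≠ c := by simp [b, c]
  have hm : ∀ {i j : Fin n} (h : i ≠ j), rootGp (Pi.single i (1 : k)) (Pi.single j 1)
      (single_pair h).2.2 ∈ family n k := fun h => ⟨_, _, single_pair h, rfl⟩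
  refine ⟨⟨_, hm hab, _, hm hac, ?_, commute_case _ _ (by simp [hab.symm]) (by simp [hac.symm])⟩,
    ⟨_, hm hab, _, hm hab.symm, (rankOne_case _ _ (by simp) (by simp)).1⟩,
    ⟨_, hm hab, _, hm hbc, commutator_case (single_pair hab) (single_pair hbc) (by simp)
      (by simp [hac.symm])⟩⟩
  intro e
  have h1 : tv (single_pair (k := k) hab).2.2 ∈
      rootGp (Pi.single a (1 : k)) (Pi.single b 1) (single_pair hab).2.2 :=
    ⟨1, by rw [one_smul]; rfl⟩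
  rw [e] at h1
  obtain ⟨x, hx⟩ := h1
  have h2 := congrFun (congrFun hx a) b
  simp [tv, tm, vecMulVec_apply, hab, hbc.symm, hbc] at h2

/-- Two vectors avoided by a functional killing a third. -/
theorem exists_functional {x v w : Fin n → k} (hv : v ∉ (k ∙ x)) (hw : w ∉ (k ∙ x)) :
    ∃ χ : Fin n → k, χ ⬝ᵥ x = 0 ∧ χ ⬝ᵥ v ≠ 0 ∧ χ ⬝ᵥ w ≠ 0 := by
  let W := LinearMap.ker (dotForm x)
  obtain ⟨χ, h1, h2⟩ := exists_both ((dotForm v).comp W.subtype) ((dotForm w).comp W.subtype)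
    (by
      obtain ⟨ψ, hψ, hψ0⟩ := Submodule.exists_dual_map_eq_bot_of_notMem hv inferInstance
      exact aux hψ hψ0)
    (by
      obtain ⟨ψ, hψ, hψ0⟩ := Submodule.exists_dual_map_eq_bot_of_notMem hw inferInstance
      exact aux hψ hψ0)
  refine ⟨χ, ?_, ?_, ?_⟩
  · rw [dotProduct_comm]; exact χ.2
  · rw [dotProduct_comm]; exact h1
  · rw [dotProduct_comm]; exact h2
where
  aux {x v : Fin n → k} {ψ : (Fin n → k) →ₗ[k] k} (hψ : ψ v ≠ 0)
      (hψ0 : (k ∙ x).map ψ = ⊥) :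
      ∃ a : LinearMap.ker (dotForm x), ((dotForm v).comp (LinearMap.ker (dotForm x)).subtype) a ≠ 0 := by
    let u : Fin n → k := fun j => ψ (Pi.single j 1)
    have hu : ∀ y, y ⬝ᵥ u = ψ y := by
      intro y
      conv_rhs => rw [pi_eq_sum_univ' y]
      rw [map_sum]
      simp [u, dotProduct]
    have hx : ψ x = 0 := by
      have : ψ x ∈ (k ∙ x).map ψ := ⟨x, Submodule.mem_span_singleton_self x, rfl⟩
      rwa [hψ0, Submodule.mem_bot] at this
    exact ⟨⟨u, show x ⬝ᵥ u = 0 by rw [hu, hx]⟩, show v ⬝ᵥ u ≠ 0 by rw [hu]; exact hψ⟩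

theorem connected : IsConnectedFamily (FAdj (family n k)) (family n k) := by
  rintro _ ⟨v, φ, hv, rfl⟩ _ ⟨w, ψ, hw, rfl⟩
  obtain ⟨a, ha⟩ := exists_dot_eq_one hv.2.1
  obtain ⟨b, hb⟩ := exists_dot_eq_one hw.2.1
  obtain ⟨x, hx1, hx2⟩ := exists_both (dotForm φ) (dotForm ψ)
    ⟨a, show φ ⬝ᵥ a ≠ 0 by rw [ha]; exact one_ne_zero⟩
    ⟨b, show ψ ⬝ᵥ b ≠ 0 by rw [hb]; exact one_ne_zero⟩
  change φ ⬝ᵥ x ≠ 0 at hx1
  change ψ ⬝ᵥ x ≠ 0 at hx2
  have key : ∀ {v φ : Fin n → k}, IsPair v φ → φ ⬝ᵥ x ≠ 0 → v ∉ (k ∙ x) := by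
    intro v φ hv hx he
    obtain ⟨c, rfl⟩ := Submodule.mem_span_singleton.mp he
    have h3 := hv.2.2
    rw [dotProduct_smul, smul_eq_mul, mul_eq_zero] at h3
    exact hv.1 (by rw [h3.resolve_right hx, zero_smul])
  obtain ⟨χ, hχx, hχv, hχw⟩ := exists_functional (key hv hx1) (key hw hx2)
  have hp : IsPair x χ := ⟨fun e => hx1 (by rw [e, dotProduct_zero]),
    fun e => hχv (by rw [e, zero_dotProduct]), hχx⟩
  exact (Relation.ReflTransGen.single ⟨⟨v, φ, hv, rfl⟩, ⟨x, χ, hp, rfl⟩,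
    (rankOne_case hv.2.2 hχx hx1 hχv).1⟩).tail ⟨⟨x, χ, hp, rfl⟩, ⟨w, ψ, hw, rfl⟩,
    (rankOne_case hχx hw.2.2 hχw hx2).1⟩

/-- The family is the class of the elementary root subgroup. -/
theorem family_eq (hn : 3 ≤ n) {i j : Fin n} (hij : i ≠ j) :
    {A : Subgroup SL | ∃ g : SL, A = conjBy (Subgroup.closure {t : SL |
      ∃ c : k, (t : Matrix (Fin n) (Fin n) k) = Matrix.transvection i j c}) g} = family n k := by
  have e : Subgroup.closure {t : SL |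
      ∃ c : k, (t : Matrix (Fin n) (Fin n) k) = Matrix.transvection i j c} =
      rootGp _ _ (single_pair (k := k) hij).2.2 := by
    refine le_antisymm ((Subgroup.closure_le _).mpr fun t ⟨c, hc⟩ => ⟨c, by rw [hc, transvection_eq]⟩)
      fun t ⟨c, hc⟩ => Subgroup.subset_closure ⟨c, by rw [hc, transvection_eq]⟩
  rw [e]
  ext A
  constructor
  · rintro ⟨g, rfl⟩; exact ⟨_, _, pair_map (single_pair hij) g, conjBy_rootGp (single_pair hij) g⟩
  · intro hA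
    exact (conjClass hn).2 _ ⟨_, _, single_pair hij, rfl⟩ A hA

end Cfsg.Agent.Lib.RootModels.SLPairs
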