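import Cfsg.Agent.Lib.RootModels.Embed
import Cfsg.Agent.Lib.RootModels.Generated
import Cfsg.Agent.Lib.Forms.Bridge

/-!
Siegel transvection groups attached to totally singular lines of a non-degenerate quadratic space.
-/

set_option autoImplicit false
set_option linter.unusedSectionVars false
set_option linter.unusedSimpArgs false

namespace Cfsg.Agent.Lib.RootModels.SiegelLines

open Cfsg Matrix Module QuadraticMap Cfsg.Agent.Lib.Forms

variable {ι : Type} [Fintype ι] [DecidableEq ι] {F : Type*} [Field F]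
  {Q : QuadraticForm F (ι → F)} {f : (ι → F) → F}

/-- A basis of a totally singular line. -/
structure IsLine (Q : QuadraticForm F (ι → F)) (p r : ι → F) : Prop where
  indep : LinearIndependent F ![p, r]
  left : Q p = 0
  right : Q r = 0
  perp : polar Q p r = 0

/-- The nilpotent matrix of a pair. -/
noncomputable def xm (Q : QuadraticForm F (ι → F)) (p r : ι → F) : Matrix ι ι F :=
  vecMulVec r (Cfsg.polarVec (⇑Q) p) - vecMulVec p (Cfsg.polarVec (⇑Q) r)

theorem xm_mulVec (p r x : ι → F) :
    xm Q p r *ᵥ x = polar Q p x • r - polar Q r x • p := by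
  rw [xm, sub_mulVec, vecMulVec_mulVec, vecMulVec_mulVec, polarVec_dotProduct, polarVec_dotProduct,
    op_smul_eq_smul, op_smul_eq_smul]

theorem xm_det (p r : ι → F) (a b c d : F) :
    xm Q (a • p + b • r) (c • p + d • r) = (a * d - b * c) • xm Q p r := by
  refine Matrix.mulVec_injective (funext fun x => ?_)
  show _ *ᵥ x = _ *ᵥ x
  simp only [smul_mulVec, xm_mulVec, polar_add_left, polar_smul_left, smul_eq_mul]
  module

theorem xm_self (p : ι → F) : xm Q p p = 0 := sub_self _

theorem xm_sq {p r : ι → F} (h : IsLine Q p r) : xm Q p r * xm Q p r = 0 := by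
  refine Matrix.mulVec_injective (funext fun x => ?_)
  show _ *ᵥ x = _ *ᵥ x
  simp only [← mulVec_mulVec, xm_mulVec, polar_sub_right, polar_smul_right, polar_self', h.left,
    h.right, h.perp, polar_comm (⇑Q) r p, mul_zero, smul_eq_mul, sub_self, zero_smul, zero_mulVec]

/-- The transvection `1 + c X`. -/
noncomputable def tm (Q : QuadraticForm F (ι → F)) (p r : ι → F) (c : F) : Matrix ι ι F :=
  1 + c • xm Q p r

theorem tm_mulVec (p r : ι → F) (c : F) (x : ι → F) :
    tm Q p r c *ᵥ x = x + c • (polar Q p x • r - polar Q r x • p) := by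
  rw [tm, add_mulVec, one_mulVec, smul_mulVec, xm_mulVec]

theorem tm_zero (p r : ι → F) : tm Q p r 0 = 1 := by rw [tm, zero_smul, add_zero]

theorem tm_mul_tm {p r : ι → F} (h : IsLine Q p r) (c d : F) :
    tm Q p r c * tm Q p r d = tm Q p r (c + d) := by
  simp only [tm, add_mul, mul_add, one_mul, mul_one, smul_mul_assoc, mul_smul_comm, xm_sq h,
    smul_zero, add_zero, add_smul]
  abel

theorem tm_iso {p r : ι → F} (h : IsLine Q p r) (c : F) (x : ι → F) :
    Q (tm Q p r c *ᵥ x) = Q x := by
  rw [tm_mulVec, Q_add, Q_smul, polar_smul_right, polar_sub_right, polar_smul_right,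
    polar_smul_right, sub_eq_add_neg (polar Q p x • r), ← neg_smul, Q_add, Q_smul, Q_smul,
    polar_smul_left, polar_smul_right, h.left, h.right, polar_comm (⇑Q) r p, h.perp,
    polar_comm (⇑Q) x r, polar_comm (⇑Q) x p]
  simp only [smul_eq_mul]
  ring

theorem tm_iso_f (hf : ∀ v, f v = Q v) {p r : ι → F} (h : IsLine Q p r) (c : F) :
    ∀ u _v : ι → F, f (tm Q p r c *ᵥ u) = f u := fun u _ => by rw [hf, hf, tm_iso h]

/-- The transvection as an isometry. -/
noncomputable def tv (hf : ∀ v, f v = Q v) {p r : ι → F} (h : IsLine Q p r) (c : F) :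
    Cfsg.isometryGroup F f :=
  ⟨⟨tm Q p r c, tm Q p r (-c), by rw [tm_mul_tm h, add_neg_cancel, tm_zero],
    by rw [tm_mul_tm h, neg_add_cancel, tm_zero]⟩, fun u v => tm_iso_f hf h c u v⟩

local notation "O" => Cfsg.isometryGroup F f
local notation "↟" g:max => ((Subtype.val g : GL ι F) : Matrix ι ι F)

theorem coe_mul' (a b : O) : ↟(a * b) = ↟a * ↟b := rfl

theorem ext_mat {a b : O} (h : ↟a = ↟b) : a = b := Subtype.ext (Units.ext h)

theorem iso_Q (hf : ∀ v, f v = Q v) (g : O) (x : ι → F) : Q (↟g *ᵥ x) = Q x := by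
  rw [← hf, ← hf]; exact g.2 x x

theorem iso_polar (hf : ∀ v, f v = Q v) (g : O) (x y : ι → F) :
    polar Q (↟g *ᵥ x) (↟g *ᵥ y) = polar Q x y := by
  simp only [polar, ← mulVec_add, iso_Q hf g]

/-- The root group of a singular line. -/
noncomputable def rootGp (hf : ∀ v, f v = Q v) {p r : ι → F} (h : IsLine Q p r) :
    Subgroup O where
  carrier := {g | ∃ c : F, ↟g = tm Q p r c}
  one_mem' := ⟨0, by rw [tm_zero]; rfl⟩
  mul_mem' := by
    rintro a b ⟨c, hc⟩ ⟨d, hd⟩
    exact ⟨c + d, by rw [coe_mul', hc, hd, tm_mul_tm h]⟩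
  inv_mem' := by
    rintro a ⟨c, hc⟩
    refine ⟨-c, ?_⟩
    have : a⁻¹ = tv hf h (-c) := inv_eq_of_mul_eq_one_right (ext_mat (by
      rw [coe_mul', hc]
      show tm Q p r c * tm Q p r (-c) = 1
      rw [tm_mul_tm h, add_neg_cancel, tm_zero]))
    rw [this]; rfl

variable (hf : ∀ v, f v = Q v)

theorem IsLine.combo {p r : ι → F} (h : IsLine Q p r) {a b c d : F} (hD : a * d - b * c ≠ 0) :
    IsLine Q (a • p + b • r) (c • p + d • r) := by
  refine ⟨?_, ?_, ?_, ?_⟩
  · rw [LinearIndependent.pair_iff]
    intro s t hst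
    have hl := LinearIndependent.pair_iff.1 h.indep (s * a + t * c) (s * b + t * d) (by
      rw [← hst]; module)
    refine ⟨?_, ?_⟩
    · refine (mul_eq_zero.1 (show s * (a * d - b * c) = 0 by
        linear_combination d * hl.1 - c * hl.2)).resolve_right hD
    · refine (mul_eq_zero.1 (show t * (a * d - b * c) = 0 by
        linear_combination a * hl.2 - b * hl.1)).resolve_right hD
  · rw [Q_comb, h.left, h.right, h.perp]; ring
  · rw [Q_comb, h.left, h.right, h.perp]; ring
  · simp [polar_add_left, polar_add_right, polar_smul_left, polar_smul_right, polar_self', h.left,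
      h.right, h.perp, polar_comm (⇑Q) r p]

theorem rootGp_combo {p r : ι → F} (h : IsLine Q p r) {a b c d : F} (hD : a * d - b * c ≠ 0) :
    rootGp hf (h.combo hD) = rootGp hf h := by
  ext g
  constructor
  · rintro ⟨e, he⟩
    exact ⟨e * (a * d - b * c), by rw [he, tm, tm, xm_det, smul_smul]⟩
  · rintro ⟨e, he⟩
    exact ⟨e / (a * d - b * c), by rw [he, tm, tm, xm_det, smul_smul, div_mul_cancel₀ _ hD]⟩

theorem exists_dual (hQ : Nondeg Q) {p r : ι → F} (h : IsLine Q p r) :
    ∃ x, polar Q p x ≠ 0 ∧ polar Q r x = 0 := by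
  by_contra hc
  push Not at hc
  -- `polar p` is a multiple of `polar r`
  obtain ⟨y, hy⟩ : ∃ y, polar Q r y ≠ 0 := by
    by_contra hc'
    push Not at hc'
    exact h.indep.ne_zero 1 (hQ r hc')
  have hz : p - (polar Q p y / polar Q r y) • r = 0 := hQ _ fun x => by
    have h1 : polar Q p (x - (polar Q r x / polar Q r y) • y) = 0 := by
      by_contra h2
      exact hc _ h2 (by rw [polar_sub_right, polar_smul_right, smul_eq_mul, div_mul_cancel₀ _ hy,
        sub_self])
    rw [polar_sub_right, polar_smul_right, smul_eq_mul] at h1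
    rw [polar_sub_left, polar_smul_left, smul_eq_mul]
    linear_combination h1
  have := LinearIndependent.pair_iff.1 h.indep 1 (-(polar Q p y / polar Q r y))
    (by rw [one_smul, neg_smul, ← sub_eq_add_neg, hz])
  exact one_ne_zero this.1

theorem tm_inj (hQ : Nondeg Q) {p r : ι → F} (h : IsLine Q p r) {c : F}
    (e : tm Q p r c = 1) : c = 0 := by
  obtain ⟨x, hx, hx'⟩ := exists_dual hQ h
  have h1 := congrArg (fun M : Matrix ι ι F => M *ᵥ x) e
  simp only [tm_mulVec, one_mulVec, hx', zero_smul, sub_zero, add_eq_left, smul_eq_zero] at h1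
  rcases h1 with h1 | h1 | h1
  · exact h1
  · exact absurd h1 hx
  · exact absurd h1 (h.indep.ne_zero 1)

theorem ne_bot (hQ : Nondeg Q) {p r : ι → F} (h : IsLine Q p r) : rootGp hf h ≠ ⊥ := fun e => by
  have h1 : tv hf h 1 ∈ rootGp hf h := ⟨1, rfl⟩
  rw [e, Subgroup.mem_bot] at h1
  exact one_ne_zero (tm_inj hQ h (congrArg (fun g : O => ↟g) h1))

theorem commutative {p r : ι → F} (h : IsLine Q p r) : IsMulCommutative (rootGp hf h) :=
  ⟨⟨fun ⟨a, c, hc⟩ ⟨b, d, hd⟩ => Subtype.ext (ext_mat (by
    show ↟(a * b) = ↟(b * a)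
    rw [coe_mul', coe_mul', hc, hd, tm_mul_tm h, tm_mul_tm h, add_comm]))⟩⟩

theorem IsLine.map {p r : ι → F} (h : IsLine Q p r) (g : O) (hf : ∀ v, f v = Q v) :
    IsLine Q (↟g *ᵥ p) (↟g *ᵥ r) := by
  refine ⟨?_, by rw [iso_Q hf, h.left], by rw [iso_Q hf, h.right], by rw [iso_polar hf, h.perp]⟩
  rw [LinearIndependent.pair_iff]
  intro s t hst
  refine LinearIndependent.pair_iff.1 h.indep s t (Matrix.mulVec_injective_iff_isUnit.2
    (Units.isUnit g.1) ?_)
  rw [mulVec_zero, mulVec_add, mulVec_smul, mulVec_smul, hst]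

include hf in
theorem conj_tm (g t : O) {p r : ι → F} {c : F} (ht : ↟t = tm Q p r c) :
    ↟(g * t * g⁻¹) = tm Q (↟g *ᵥ p) (↟g *ᵥ r) c := by
  refine Matrix.mulVec_injective (funext fun x => ?_)
  show _ *ᵥ x = _ *ᵥ x
  set y := ↟(g⁻¹) *ᵥ x
  have hy : ↟g *ᵥ y = x := by
    rw [mulVec_mulVec, ← coe_mul', mul_inv_cancel]; exact one_mulVec x
  rw [coe_mul', coe_mul', ← mulVec_mulVec, ← mulVec_mulVec, ht, tm_mulVec, tm_mulVec, mulVec_add,
    mulVec_smul, mulVec_sub, mulVec_smul, mulVec_smul, hy]
  rw [← hy, iso_polar hf, iso_polar hf, hy]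

theorem conjBy_rootGp {p r : ι → F} (h : IsLine Q p r) (g : O) :
    conjBy (rootGp hf h) g = rootGp hf (h.map g hf) := by
  ext x
  rw [Lib.RootSubgroups.mem_conjBy]
  constructor
  · rintro ⟨c, hc⟩
    refine ⟨c, ?_⟩
    rw [show x = g * (g⁻¹ * x * g) * g⁻¹ by group, conj_tm hf g _ hc]
  · rintro ⟨c, hc⟩
    refine ⟨c, ?_⟩
    rw [show x = g * tv hf h c * g⁻¹ from ext_mat (hc.trans (conj_tm hf g (tv hf h c) rfl).symm),
      show g⁻¹ * (g * tv hf h c * g⁻¹) * g = tv hf h c by group]
    rfl

/-- All root groups. -/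
def family (hf : ∀ v, f v = Q v) : Set (Subgroup O) :=
  {A | ∃ p r, ∃ h : IsLine Q p r, A = rootGp hf h}

/-! ### Pairs -/

theorem key_swap {p r u w : ι → F} (h : IsLine Q p r) (h' : IsLine Q u w) (hpu : polar Q p u = 0)
    (hpw : polar Q p w = 0) (hru : polar Q r u = 0) (c d : F) :
    tm Q p r c * tm Q u w d =
      tm Q p u (c * d * polar Q r w) * (tm Q u w d * tm Q p r c) := by
  refine Matrix.mulVec_injective (funext fun x => ?_)
  show _ *ᵥ x = _ *ᵥ x
  simp only [← mulVec_mulVec, tm_mulVec, polar_add_right, polar_smul_right, polar_sub_right,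
    polar_self', h.left, h.right, h.perp, h'.left, h'.right, h'.perp, hpu, hpw, hru,
    polar_comm (⇑Q) r p, polar_comm (⇑Q) u p, polar_comm (⇑Q) u r, polar_comm (⇑Q) w p,
    polar_comm (⇑Q) w u, polar_comm (⇑Q) w r, smul_eq_mul, mul_zero, sub_zero, add_zero]
  module

theorem comm_of {p r u w : ι → F} (h : IsLine Q p r) (h' : IsLine Q u w) (hpu : polar Q p u = 0)
    (hpw : polar Q p w = 0) (hru : polar Q r u = 0)
    (h0 : polar Q r w = 0 ∨ ¬ LinearIndependent F ![p, u]) :
    ⁅rootGp hf h, rootGp hf h'⁆ = ⊥ := by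
  refine Lib.RootSubgroups.commutator_eq_bot_of_comm fun a ⟨c, hc⟩ b ⟨d, hd⟩ => ext_mat ?_
  rw [coe_mul', coe_mul', hc, hd, key_swap h h' hpu hpw hru]
  suffices tm Q p u (c * d * polar Q r w) = 1 by rw [this, one_mul]
  rcases h0 with h0 | h0
  · rw [h0, mul_zero, tm_zero]
  · rw [LinearIndependent.pair_iff] at h0
    push Not at h0
    obtain ⟨s, t, hst, hne⟩ := h0
    have ht : t ≠ 0 := fun e => by
      rw [e, zero_smul, add_zero, smul_eq_zero] at hst
      exact (hne (hst.resolve_right (h.indep.ne_zero 0))) e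
    have hu : u = (-(t⁻¹ * s)) • p + (0 : F) • p := by
      have h1 := congrArg (fun z => t⁻¹ • z) hst
      simp only [smul_add, smul_smul, inv_mul_cancel₀ ht, one_smul, smul_zero] at h1
      rw [zero_smul, add_zero, neg_smul]
      exact eq_neg_of_add_eq_zero_right h1
    have hp : p = (1 : F) • p + (0 : F) • p := by rw [one_smul, zero_smul, add_zero]
    rw [tm]
    nth_rw 1 [hp]
    rw [hu, xm_det, xm_self, smul_zero, smul_zero, add_zero]

theorem rcc_of {p r u w : ι → F} (hQ : Nondeg Q) (h : IsLine Q p r) (h' : IsLine Q u w)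
    (hpu : polar Q p u = 0) (hpw : polar Q p w = 0) (hru : polar Q r u = 0)
    (hrw : polar Q r w ≠ 0) (hind : LinearIndependent F ![p, u]) :
    RootCommutatorCase (family hf) (rootGp hf h) (rootGp hf h') := by
  set β := polar Q r w
  have hC : IsLine Q p u := ⟨hind, h.left, h'.left, hpu⟩
  set C := rootGp hf hC
  have hcomm : ∀ a b : O, ∀ c d : F, ↟a = tm Q p r c → ↟b = tm Q u w d →
      a * b * a⁻¹ * b⁻¹ = tv hf hC (c * d * β) := by
    intro a b c d hc hd
    have e : a * b = tv hf hC (c * d * β) * (b * a) := ext_mat (by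
      rw [coe_mul', coe_mul', coe_mul', hc, hd]
      exact key_swap h h' hpu hpw hru c d)
    rw [e]; group
  have hle : ⁅rootGp hf h, rootGp hf h'⁆ ≤ C := by
    rw [Subgroup.commutator_le]
    rintro a ⟨c, hc⟩ b ⟨d, hd⟩
    rw [commutatorElement_def, hcomm a b c d hc hd]
    exact ⟨_, rfl⟩
  have hA : ∀ a ∈ rootGp hf h, a ≠ 1 →
      C ≤ Subgroup.closure ((fun b : O => a * b * a⁻¹ * b⁻¹) '' (rootGp hf h' : Set O)) := by
    rintro a ⟨c, hc⟩ ha g ⟨e, he⟩
    have hc0 : c ≠ 0 := fun h => ha (ext_mat (by rw [hc, h, tm_zero]; rfl))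
    refine Subgroup.subset_closure ⟨tv hf h' (e / (c * β)), ⟨_, rfl⟩, ?_⟩
    show a * tv hf h' (e / (c * β)) * a⁻¹ * (tv hf h' (e / (c * β)))⁻¹ = g
    rw [hcomm a (tv hf h' (e / (c * β))) c (e / (c * β)) hc rfl]
    refine ext_mat (Eq.trans ?_ he.symm)
    show tm Q p u _ = _
    congr 1; field_simp
  have hB : ∀ b ∈ rootGp hf h', b ≠ 1 →
      C ≤ Subgroup.closure ((fun a : O => a * b * a⁻¹ * b⁻¹) '' (rootGp hf h : Set O)) := by
    rintro b ⟨d, hd⟩ hb g ⟨e, he⟩
    have hd0 : d ≠ 0 := fun h => hb (ext_mat (by rw [hd, h, tm_zero]; rfl))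
    refine Subgroup.subset_closure ⟨tv hf h (e / (d * β)), ⟨_, rfl⟩, ?_⟩
    show tv hf h (e / (d * β)) * b * (tv hf h (e / (d * β)))⁻¹ * b⁻¹ = g
    rw [hcomm (tv hf h (e / (d * β))) b (e / (d * β)) d rfl hd]
    refine ext_mat (Eq.trans ?_ he.symm)
    show tm Q p u _ = _
    congr 1; field_simp
  have hge : ∀ a ∈ rootGp hf h, ∀ b ∈ rootGp hf h',
      a * b * a⁻¹ * b⁻¹ ∈ ⁅rootGp hf h, rootGp hf h'⁆ := fun a ha b hb => by
    rw [← commutatorElement_def]; exact Subgroup.commutator_mem_commutator ha hb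
  have heq : ⁅rootGp hf h, rootGp hf h'⁆ = C := by
    refine le_antisymm hle ?_
    obtain ⟨a, ha, ha1⟩ := Lib.RootSubgroups.exists_ne_one (ne_bot hf hQ h)
    refine (hA a ha ha1).trans ((Subgroup.closure_le _).mpr ?_)
    rintro _ ⟨b, hb, rfl⟩
    exact hge a ha b hb
  refine ⟨heq ▸ ⟨p, u, hC, rfl⟩, ?_, ?_, ?_⟩
  · rw [heq]
    rintro z ⟨e, he⟩ x hx
    refine Lib.RootSubgroups.comm_sup (fun a ha => ?_) (fun b hb => ?_) x hx
    · obtain ⟨c, hc⟩ := ha
      refine ext_mat ?_
      rw [coe_mul', coe_mul', he, hc]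
      rw [key_swap hC h (by rw [polar_self', h.left, mul_zero]) h.perp
        (by rw [polar_comm, hpu]) e c, polar_comm (⇑Q) u r, hru, mul_zero, tm_zero, one_mul]
    · obtain ⟨d, hd⟩ := hb
      refine ext_mat ?_
      rw [coe_mul', coe_mul', he, hd]
      rw [key_swap hC h' hpu hpw (by rw [polar_self', h'.left, mul_zero]) e d, h'.perp, mul_zero,
        tm_zero, one_mul]
  · intro a ha ha1
    refine le_antisymm ((Subgroup.closure_le _).mpr ?_) (heq ▸ hA a ha ha1)
    rintro _ ⟨b, hb, rfl⟩
    exact hge a ha b hb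
  · intro b hb hb1
    refine le_antisymm ((Subgroup.closure_le _).mpr ?_) (heq ▸ hB b hb hb1)
    rintro _ ⟨a, ha, rfl⟩
    exact hge a ha b hb

/-- The double copy of `SL₂`. -/
theorem opposite_normal {p r u w : ι → F} (h : IsLine Q p r) (h' : IsLine Q u w)
    (hpu : polar Q p u = 1) (hrw : polar Q r w = 1) (hpw : polar Q p w = 0)
    (hru : polar Q r u = 0) :
    IsRankOnePair (rootGp hf h) (rootGp hf h') ∧ IsPSL2PairOver F (rootGp hf h) (rootGp hf h') := by
  set B := Cfsg.polarVec (⇑Q) with hBdef
  have hup : polar Q u p = 1 := (polar_comm _ _ _).trans hpu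
  have hwr : polar Q w r = 1 := (polar_comm _ _ _).trans hrw
  have hwp : polar Q w p = 0 := (polar_comm _ _ _).trans hpw
  have hur : polar Q u r = 0 := (polar_comm _ _ _).trans hru
  have hd1 : rows (B u) (-B r) * cols p (-w) = 1 := rows_mul_cols
    (by rw [hBdef, polarVec_dotProduct, hup])
    (by rw [hBdef, polarVec_dotProduct, polar_neg_right, h'.perp, neg_zero])
    (by rw [hBdef, neg_dotProduct, polarVec_dotProduct, polar_comm, h.perp, neg_zero])
    (by rw [hBdef, neg_dotProduct, polarVec_dotProduct, polar_neg_right, hrw, neg_neg])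
  have hd2 : rows (B w) (B p) * cols r u = 1 := rows_mul_cols
    (by rw [hBdef, polarVec_dotProduct, hwr])
    (by rw [hBdef, polarVec_dotProduct, polar_comm, h'.perp])
    (by rw [hBdef, polarVec_dotProduct, h.perp]) (by rw [hBdef, polarVec_dotProduct, hpu])
  have x12 : rows (B u) (-B r) * cols r u = (0 : Matrix (Fin 2) (Fin 2) F) := by
    have e1 : (B u) ⬝ᵥ r = 0 := by rw [hBdef, polarVec_dotProduct, hur]
    have e2 : (B u) ⬝ᵥ u = 0 := by rw [hBdef, polarVec_dotProduct, polar_self', h'.left, mul_zero]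
    have e3 : (B r) ⬝ᵥ r = 0 := by rw [hBdef, polarVec_dotProduct, polar_self', h.right, mul_zero]
    have e4 : (B r) ⬝ᵥ u = 0 := by rw [hBdef, polarVec_dotProduct, hru]
    simp only [dotProduct] at e1 e2 e3 e4
    ext a b
    fin_cases a <;> fin_cases b <;>
      simp [rows, cols, Matrix.mul_apply, e1, e2, e3, e4]
  have x21 : rows (B w) (B p) * cols p (-w) = (0 : Matrix (Fin 2) (Fin 2) F) := by
    have e1 : (B w) ⬝ᵥ p = 0 := by rw [hBdef, polarVec_dotProduct, hwp]
    have e2 : (B w) ⬝ᵥ w = 0 := by rw [hBdef, polarVec_dotProduct, polar_self', h'.right, mul_zero]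
    have e3 : (B p) ⬝ᵥ p = 0 := by rw [hBdef, polarVec_dotProduct, polar_self', h.left, mul_zero]
    have e4 : (B p) ⬝ᵥ w = 0 := by rw [hBdef, polarVec_dotProduct, hpw]
    simp only [dotProduct] at e1 e2 e3 e4
    ext a b
    fin_cases a <;> fin_cases b <;>
      simp [rows, cols, Matrix.mul_apply, e1, e2, e3, e4]
  let e1' := embed _ _ hd1
  let e2' := embed _ _ hd2
  have zero12 : ∀ A C : Matrix (Fin 2) (Fin 2) F,
      cols p (-w) * A * rows (B u) (-B r) * (cols r u * C * rows (B w) (B p)) = 0 := fun A C => by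
    calc _ = cols p (-w) * A * (rows (B u) (-B r) * cols r u) * (C * rows (B w) (B p)) := by
          simp only [Matrix.mul_assoc]
      _ = 0 := by rw [x12, Matrix.mul_zero, Matrix.zero_mul]
  have zero21 : ∀ A C : Matrix (Fin 2) (Fin 2) F,
      cols r u * A * rows (B w) (B p) * (cols p (-w) * C * rows (B u) (-B r)) = 0 := fun A C => by
    calc _ = cols r u * A * (rows (B w) (B p) * cols p (-w)) * (C * rows (B u) (-B r)) := by
          simp only [Matrix.mul_assoc]
      _ = 0 := by rw [x21, Matrix.mul_zero, Matrix.zero_mul]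
  have hcom : ∀ M N, e1' M * e2' N = e2' N * e1' M := fun M N => by
    show (1 + _ : Matrix ι ι F) * (1 + _) = (1 + _) * (1 + _)
    simp only [Matrix.add_mul, Matrix.mul_add, Matrix.one_mul, Matrix.mul_one, zero12, zero21]
    abel
  let φ : SpecialLinearGroup (Fin 2) F →* Matrix ι ι F :=
    { toFun := fun M => e1' M * e2' M
      map_one' := by rw [map_one, map_one, one_mul]
      map_mul' := fun M N => by
        rw [map_mul, map_mul]
        calc e1' M * e1' N * (e2' M * e2' N) = e1' M * (e1' N * e2' M) * e2' N := by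
              simp only [Matrix.mul_assoc]
          _ = e1' M * e2' M * (e1' N * e2' N) := by
              rw [hcom N M]; simp only [Matrix.mul_assoc] }
  have hup' : ∀ c, φ (Lib.RootSubgroups.SL2.up c) = tm Q p r c := by
    intro c
    show embed _ _ hd1 _ * embed _ _ hd2 _ = _
    rw [embed_up, embed_up]
    refine Matrix.mulVec_injective (funext fun x => ?_)
    show _ *ᵥ x = _ *ᵥ x
    rw [← mulVec_mulVec, RootModels.tm_mulVec, RootModels.tm_mulVec, SiegelLines.tm_mulVec, hBdef]
    simp only [neg_dotProduct, polarVec_dotProduct, polar_add_right, polar_smul_right,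
      polar_self', h.right, mul_zero, smul_eq_mul, neg_zero, add_zero]
    module
  have hlow' : ∀ c, φ (Lib.RootSubgroups.SL2.low c) = tm Q u w (-c) := by
    intro c
    show embed _ _ hd1 _ * embed _ _ hd2 _ = _
    rw [embed_low, embed_low]
    refine Matrix.mulVec_injective (funext fun x => ?_)
    show _ *ᵥ x = _ *ᵥ x
    rw [← mulVec_mulVec, RootModels.tm_mulVec, RootModels.tm_mulVec, SiegelLines.tm_mulVec, hBdef]
    simp only [polarVec_dotProduct, polar_add_right, polar_smul_right,
      polar_self', h'.left, mul_zero, smul_eq_mul, add_zero]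
    module
  have hφiso : ∀ M, ∀ x, Q (φ M *ᵥ x) = Q x := by
    intro M
    have hM : M ∈ lowerUnipotentSL2 F ⊔ upperUnipotentSL2 F := by
      rw [Lib.RootSubgroups.SL2.generated]; trivial
    rw [lowerUnipotentSL2, upperUnipotentSL2, ← Subgroup.closure_union] at hM
    induction hM using Subgroup.closure_induction with
    | mem g hg =>
      rcases hg with hg | hg
      · obtain ⟨t, rfl⟩ := Lib.RootSubgroups.SL2.mem_lower.mp (Subgroup.subset_closure hg)
        intro x; rw [hlow']; exact tm_iso h' _ x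
      · obtain ⟨t, rfl⟩ := Lib.RootSubgroups.SL2.mem_upper.mp (Subgroup.subset_closure hg)
        intro x; rw [hup']; exact tm_iso h _ x
    | one => intro x; rw [map_one, one_mulVec]
    | mul a b _ _ ha hb => intro x; rw [map_mul, ← mulVec_mulVec, ha, hb]
    | inv a _ ha =>
      intro x
      conv_rhs => rw [← one_mulVec x, ← map_one φ, ← mul_inv_cancel a, map_mul, ← mulVec_mulVec, ha]
  let fO : SpecialLinearGroup (Fin 2) F →* O :=
    { toFun := fun M => ⟨⟨φ M, φ M⁻¹, by rw [← map_mul, mul_inv_cancel, map_one],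
        by rw [← map_mul, inv_mul_cancel, map_one]⟩, fun x _ => by
          show f (φ M *ᵥ x) = f x
          rw [hf, hf, hφiso]⟩
      map_one' := ext_mat (map_one φ)
      map_mul' := fun M N => ext_mat (map_mul φ M N) }
  have hinj : Function.Injective fO := by
    intro M N e
    have h1 : e1' M * e2' M = e1' N * e2' N := congrArg (fun g : O => ↟g) e
    apply embed_injective hd1
    have key : ∀ A : SpecialLinearGroup (Fin 2) F,
        e1' A * e2' A * cols p (-w) = e1' A * cols p (-w) := fun A => by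
      rw [Matrix.mul_assoc]
      congr 1
      show (1 + _ : Matrix ι ι F) * cols p (-w) = _
      rw [Matrix.add_mul, Matrix.one_mul, Matrix.mul_assoc, x21, Matrix.mul_zero, add_zero]
    have h2 : e1' M * cols p (-w) = e1' N * cols p (-w) := by rw [← key, ← key, h1]
    have key2 : ∀ A : SpecialLinearGroup (Fin 2) F,
        e1' A * cols p (-w) = cols p (-w) * (A : Matrix (Fin 2) (Fin 2) F) := fun A => by
      show (1 + _ : Matrix ι ι F) * cols p (-w) = _
      rw [Matrix.add_mul, Matrix.one_mul, Matrix.mul_assoc, hd1, Matrix.mul_one, Matrix.mul_sub,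
        Matrix.mul_one, add_sub_cancel]
    rw [key2, key2] at h2
    show (1 + _ : Matrix ι ι F) = 1 + _
    rw [Matrix.mul_sub, Matrix.mul_sub, h2]
  refine pair_of_hom (f := fO) hinj (fun g => ?_) (fun g => ?_)
  · constructor
    · rintro ⟨c, hc⟩; exact ⟨c, ext_mat ((hup' c).trans hc.symm)⟩
    · rintro ⟨c, rfl⟩; exact ⟨c, hup' c⟩
  · constructor
    · rintro ⟨c, hc⟩
      refine ⟨-c, ext_mat ((hlow' _).trans ?_)⟩
      rw [neg_neg, hc]
    · rintro ⟨c, rfl⟩; exact ⟨-c, hlow' c⟩

/-- Two lines in general position. -/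
theorem opposite {p r u w : ι → F} (h : IsLine Q p r) (h' : IsLine Q u w)
    (hD : polar Q p u * polar Q r w - polar Q p w * polar Q r u ≠ 0) :
    IsRankOnePair (rootGp hf h) (rootGp hf h') ∧ IsPSL2PairOver F (rootGp hf h) (rootGp hf h') := by
  set a := polar Q p u
  set b := polar Q p w
  set c := polar Q r u
  set d := polar Q r w
  set D := a * d - b * c
  have hd : (d / D) * (a / D) - (-(c / D)) * (-(b / D)) ≠ 0 := by
    have : (d / D) * (a / D) - (-(c / D)) * (-(b / D)) = D⁻¹ := by
      simp only [D]; field_simp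
    rw [this]; exact inv_ne_zero hD
  have hn := h'.combo hd
  rw [← rootGp_combo hf h' hd]
  have hD' : a * d - b * c = D := rfl
  refine opposite_normal hf h hn ?_ ?_ ?_ ?_ <;>
    simp only [polar_add_right, polar_smul_right, smul_eq_mul, ← show polar Q p u = a from rfl]
  · field_simp; linear_combination hD'
  · field_simp; linear_combination hD'
  · show -(b / D) * a + a / D * b = 0
    ring
  · show d / D * c + -(c / D) * d = 0
    ring

theorem trichotomy (hQ : Nondeg Q) {p r u w : ι → F} (h : IsLine Q p r) (h' : IsLine Q u w) :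
    ⁅rootGp hf h, rootGp hf h'⁆ = ⊥ ∨
      (IsRankOnePair (rootGp hf h) (rootGp hf h') ∧
        IsPSL2PairOver F (rootGp hf h) (rootGp hf h')) ∨
      RootCommutatorCase (family hf) (rootGp hf h) (rootGp hf h') := by
  by_cases hD : polar Q p u * polar Q r w - polar Q p w * polar Q r u ≠ 0
  · exact Or.inr (Or.inl (opposite hf h h' hD))
  push Not at hD
  -- a degenerate pairing with a non-zero last entry
  have core : ∀ {p r u w : ι → F} (h : IsLine Q p r) (h' : IsLine Q u w),
      polar Q p u * polar Q r w - polar Q p w * polar Q r u = 0 → polar Q r w ≠ 0 →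
      ⁅rootGp hf h, rootGp hf h'⁆ = ⊥ ∨
        RootCommutatorCase (family hf) (rootGp hf h) (rootGp hf h') := by
    intro p r u w h h' hD hd
    set b := polar Q p w
    set c := polar Q r u
    set d := polar Q r w
    have e1 : d * 1 - -b * 0 ≠ 0 := by simpa using hd
    have e2 : d * 1 - -c * 0 ≠ 0 := by simpa using hd
    rw [← rootGp_combo hf h e1, ← rootGp_combo hf h' e2]
    have k1 : polar Q (d • p + -b • r) (d • u + -c • w) = 0 := by
      simp only [polar_add_left, polar_add_right, polar_smul_left, polar_smul_right, smul_eq_mul]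
      linear_combination d * hD
    have k2 : polar Q (d • p + -b • r) ((0 : F) • u + (1 : F) • w) = 0 := by
      simp only [polar_add_left, polar_add_right, polar_smul_left, polar_smul_right, smul_eq_mul]
      ring
    have k3 : polar Q ((0 : F) • p + (1 : F) • r) (d • u + -c • w) = 0 := by
      simp only [polar_add_left, polar_add_right, polar_smul_left, polar_smul_right, smul_eq_mul]
      ring
    have k4 : polar Q ((0 : F) • p + (1 : F) • r) ((0 : F) • u + (1 : F) • w) ≠ 0 := by
      simpa using hd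
    by_cases hi : LinearIndependent F ![d • p + -b • r, d • u + -c • w]
    · exact Or.inr (rcc_of hf hQ (h.combo e1) (h'.combo e2) k1 k2 k3 k4 hi)
    · exact Or.inl (comm_of hf (h.combo e1) (h'.combo e2) k1 k2 k3 (Or.inr hi))
  have sw : (0 : F) * 0 - 1 * 1 ≠ 0 := by norm_num
  have hs := rootGp_combo hf h sw
  have hs' := rootGp_combo hf h' sw
  by_cases hd : polar Q r w ≠ 0
  · exact (core h h' hD hd).imp id Or.inr
  push Not at hd
  by_cases hc : polar Q r u ≠ 0
  · have := core h (h'.combo sw) (by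
      simp only [polar_add_right, polar_smul_right, smul_eq_mul]
      linear_combination -hD) (by simpa using hc)
    rw [hs'] at this
    exact this.imp id Or.inr
  by_cases hb : polar Q p w ≠ 0
  · have := core (h.combo sw) h' (by
      simp only [polar_add_left, polar_smul_left, smul_eq_mul]
      linear_combination -hD) (by simpa using hb)
    rw [hs] at this
    exact this.imp id Or.inr
  by_cases ha : polar Q p u ≠ 0
  · have := core (h.combo sw) (h'.combo sw) (by
      simp only [polar_add_left, polar_smul_left, polar_add_right, polar_smul_right, smul_eq_mul]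
      linear_combination hD) (by simpa using ha)
    rw [hs, hs'] at this
    exact this.imp id Or.inr
  push Not at hc hb ha
  exact Or.inl (comm_of hf h h' ha hb hc (Or.inl hd))

theorem kRoot (hQ : Nondeg Q) :
    IsKRootSubgroupSet F ((fun A : Subgroup O => A.subgroupOf (⨆ B ∈ family hf, B)) '' family hf) :=
  Generated.kRoot (fun _ ⟨_, _, h, e⟩ => e ▸ commutative hf h)
    (fun _ ⟨_, _, h, e⟩ => e ▸ ne_bot hf hQ h)
    (fun _ ⟨_, _, h, e⟩ g => e ▸ ⟨_, _, h.map g hf, conjBy_rootGp hf h g⟩)
    (fun _ ⟨_, _, h, e⟩ _ ⟨_, _, h', e'⟩ => e ▸ e' ▸ trichotomy hf hQ h h')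

theorem closure_eq (hQ : Nondeg Q) {p r : ι → F} (h : IsLine Q p r) :
    Subgroup.closure {σ : O | ∀ v, f (v + p) - f v - f p = 0 → f (v + r) - f v - f r = 0 →
      ↟σ *ᵥ v = v} = rootGp hf h := by
  have hB : ∀ v z, f (v + z) - f v - f z = polar Q v z := fun v z => by rw [hf, hf, hf]; rfl
  refine le_antisymm ((Subgroup.closure_le _).mpr fun g hg => ?_) fun g ⟨c, hc⟩ =>
    Subgroup.subset_closure fun v hp hr => ?_
  swap
  · rw [hB, polar_comm] at hp hr
    rw [hc, tm_mulVec, hp, hr, zero_smul, zero_smul, sub_zero, smul_zero, add_zero]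
  obtain ⟨x₁, hx₁, hx₁'⟩ := exists_dual hQ h
  have hh : IsLine Q ((0 : F) • p + (1 : F) • r) ((1 : F) • p + (0 : F) • r) :=
    h.combo (by norm_num : (0 : F) * 0 - 1 * 1 ≠ 0)
  obtain ⟨x₂, hx₂', hx₂⟩ := exists_dual hQ hh
  simp only [zero_smul, one_smul, zero_add, add_zero] at hx₂ hx₂'
  -- normalised duals
  set a := (polar Q p x₁)⁻¹ • x₁
  set b := (polar Q r x₂)⁻¹ • x₂
  have hpa : polar Q p a = 1 := by rw [polar_smul_right, smul_eq_mul, inv_mul_cancel₀ hx₁]
  have hra : polar Q r a = 0 := by rw [polar_smul_right, hx₁', smul_zero]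
  have hpb : polar Q p b = 0 := by rw [polar_smul_right, hx₂, smul_zero]
  have hrb : polar Q r b = 1 := by rw [polar_smul_right, smul_eq_mul, inv_mul_cancel₀ hx₂']
  clear_value a b
  have hdec : ∀ x, ↟g *ᵥ (x - polar Q p x • a - polar Q r x • b) =
      x - polar Q p x • a - polar Q r x • b := fun x => by
    refine hg _ ?_ ?_ <;> rw [hB, polar_comm] <;>
      simp only [polar_sub_right, polar_smul_right, smul_eq_mul, hpa, hra, hpb, hrb] <;> ring
  set A := ↟g *ᵥ a - a
  set C := ↟g *ᵥ b - b
  have hgx : ∀ x, ↟g *ᵥ x = x + polar Q p x • A + polar Q r x • C := fun x => by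
    have h1 := hdec x
    rw [mulVec_sub, mulVec_sub, mulVec_smul, mulVec_smul] at h1
    simp only [A, C]
    linear_combination (norm := module) h1
  -- images lie in the line
  have hperp : ∀ z, polar Q p z = 0 → polar Q r z = 0 → polar Q z A = 0 ∧ polar Q z C = 0 := by
    intro z hzp hzr
    have hz : ↟g *ᵥ z = z := by rw [hgx, hzp, hzr, zero_smul, zero_smul, add_zero, add_zero]
    constructor <;> simp only [A, C] <;> rw [polar_sub_right] <;> nth_rw 1 [← hz] <;>
      rw [iso_polar hf, sub_self]
  have span : ∀ y, (∀ z, polar Q p z = 0 → polar Q r z = 0 → polar Q z y = 0) →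
      y = polar Q y a • p + polar Q y b • r := by
    intro y hy
    rw [← sub_eq_zero]
    refine hQ _ fun x => ?_
    have h1 := hy (x - polar Q p x • a - polar Q r x • b)
      (by simp only [polar_sub_right, polar_smul_right, smul_eq_mul, hpa, hpb]; ring)
      (by simp only [polar_sub_right, polar_smul_right, smul_eq_mul, hra, hrb]; ring)
    simp only [polar_sub_left, polar_add_left, polar_smul_left, smul_eq_mul] at h1 ⊢
    rw [polar_comm (⇑Q) x y, polar_comm (⇑Q) a y, polar_comm (⇑Q) b y] at h1
    linear_combination h1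
  have hA := span A fun z h1 h2 => (hperp z h1 h2).1
  have hC := span C fun z h1 h2 => (hperp z h1 h2).2
  set α := polar Q A a
  set β := polar Q A b
  set γ := polar Q C a
  set δ := polar Q C b
  have hval : ∀ x, polar Q p x * (α * polar Q p x + β * polar Q r x) +
      polar Q r x * (γ * polar Q p x + δ * polar Q r x) = 0 := by
    intro x
    have h1 := iso_Q hf g x
    rw [hgx, add_assoc, Q_add, Q_comb, polar_add_right, polar_smul_right, polar_smul_right] at h1
    rw [hA, hC] at h1
    simp only [Q_comb, polar_add_left, polar_add_right, polar_smul_left, polar_smul_right,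
      polar_self', h.left, h.right, h.perp, polar_comm (⇑Q) r p, polar_comm (⇑Q) x p,
      polar_comm (⇑Q) x r, smul_eq_mul] at h1
    linear_combination h1
  have h10 := hval a
  have h01 := hval b
  have h11 := hval (a + b)
  simp only [polar_add_right, hpa, hra, hpb, hrb] at h10 h01 h11
  have hα : α = 0 := by linear_combination h10
  have hδ : δ = 0 := by linear_combination h01
  have hγ : γ = -β := by linear_combination h11 - hα - hδ
  refine ⟨β, Matrix.mulVec_injective (funext fun x => ?_)⟩
  show _ *ᵥ x = _ *ᵥ x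
  rw [hgx, tm_mulVec, hA, hC, hα, hδ, hγ]
  module

include hf in
theorem line_iff (p r : ι → F) :
    (LinearIndependent F ![p, r] ∧ f p = 0 ∧ f r = 0 ∧ f (p + r) = 0) ↔ IsLine Q p r := by
  rw [hf, hf, hf, Q_add]
  constructor
  · rintro ⟨h1, h2, h3, h4⟩
    exact ⟨h1, h2, h3, by rw [h2, h3] at h4; simpa using h4⟩
  · intro h
    exact ⟨h.indep, h.left, h.right, by rw [h.left, h.right, h.perp]; ring⟩

theorem set_eq (hQ : Nondeg Q) :
    {A : Subgroup O | ∃ p r : ι → F, LinearIndependent F ![p, r] ∧ f p = 0 ∧ f r = 0 ∧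
      f (p + r) = 0 ∧ A = Subgroup.closure {σ : O | ∀ v, f (v + p) - f v - f p = 0 →
        f (v + r) - f v - f r = 0 → ↟σ *ᵥ v = v}} = family hf := by
  ext A
  constructor
  · rintro ⟨p, r, h1, h2, h3, h4, rfl⟩
    have h := (line_iff hf p r).1 ⟨h1, h2, h3, h4⟩
    exact ⟨p, r, h, closure_eq hf hQ h⟩
  · rintro ⟨p, r, h, rfl⟩
    obtain ⟨h1, h2, h3, h4⟩ := (line_iff hf p r).2 h
    exact ⟨p, r, h1, h2, h3, h4, (closure_eq hf hQ h).symm⟩

/-! ### Connectedness in the hyperbolic space -/

section Connected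

variable {n : ℕ}

/-- The `i`-th basis vector of the first half. -/
def ev (i : Fin n) : Fin n ⊕ Fin n → F := Pi.single (Sum.inl i) 1

/-- The `i`-th basis vector of the second half. -/
def fv (i : Fin n) : Fin n ⊕ Fin n → F := Pi.single (Sum.inr i) 1

theorem plus_vals (i j : Fin n) :
    qPlus (F := F) n (ev i) = 0 ∧ qPlus (F := F) n (fv i) = 0 ∧
    polar (qPlus (F := F) n) (ev i) (ev j) = 0 ∧ polar (qPlus (F := F) n) (fv i) (fv j) = 0 ∧
    polar (qPlus (F := F) n) (ev i) (fv j) = if i = j then 1 else 0 := by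
  refine ⟨?_, ?_, ?_, ?_, ?_⟩ <;>
    simp [qPlus_apply, qPlus_polar, ev, fv, Pi.single_apply, Finset.sum_add_distrib, eq_comm]

theorem connected {m : ℕ} {f : (Fin (m + 3) ⊕ Fin (m + 3) → F) → F}
    (hf : ∀ v, f v = qPlus (F := F) (m + 3) v) :
    IsConnectedFamily (FAdj (family hf)) (family hf) := by
  set Q := qPlus (F := F) (m + 3)
  have hQ : Nondeg Q := qPlus_nondeg _
  let i0 : Fin (m + 3) := ⟨0, by omega⟩
  let i1 : Fin (m + 3) := ⟨1, by omega⟩
  let i2 : Fin (m + 3) := ⟨2, by omega⟩
  have h01 : i0 ≠ i1 := by simp [i0, i1]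
  have h02 : i0 ≠ i2 := by simp [i0, i2]
  have h12 : i1 ≠ i2 := by simp [i1, i2]
  -- two lines in a singular plane
  have plane : ∀ {p r r' : Fin (m + 3) ⊕ Fin (m + 3) → F} (h : IsLine Q p r) (h' : IsLine Q p r'),
      polar Q r r' = 0 →
      Relation.ReflTransGen (FAdj (family hf)) (rootGp hf h) (rootGp hf h') := by
    intro p r r' h h' hrr
    by_cases hi : LinearIndependent F ![p, r, r']
    · obtain ⟨g, hg, hgv⟩ := witt_orth hQ ![ev i0, ev i1, ev i2] ![p, r, r'] (by
          rw [Fintype.linearIndependent_iff]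
          intro c hc j
          have hh := fun l : Fin (m + 3) => congrFun hc (Sum.inl l)
          simp only [Fin.sum_univ_three, ev, Matrix.cons_val_zero, Matrix.cons_val_one,
            Matrix.cons_val_two, Matrix.head_cons, Matrix.tail_cons, Pi.add_apply, Pi.smul_apply,
            Pi.single_apply, smul_eq_mul, Pi.zero_apply, Sum.inl.injEq] at hh
          fin_cases j
          · simpa [h01, h02] using hh i0
          · simpa [h01.symm, h12] using hh i1
          · simpa [h02.symm, h12.symm] using hh i2) hi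
        (fun i => by fin_cases i <;> simp [Q, (plus_vals (F := F) _ i0).1, h.left, h.right, h'.right])
        (fun i j => by
          fin_cases i <;> fin_cases j <;>
            simp [Q, (plus_vals (F := F) _ _).2.2.1, polar_self', (plus_vals (F := F) _ i0).1, h.left,
              h.right, h'.right, h.perp, h'.perp, hrr, polar_comm (⇑(qPlus (F := F) (m + 3))) r p,
              polar_comm (⇑(qPlus (F := F) (m + 3))) r' p,
              polar_comm (⇑(qPlus (F := F) (m + 3))) r' r])
      have e0 : g (ev i0) = p := hgv 0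
      have e1 : g (ev i1) = r := hgv 1
      have e2 : g (ev i2) = r' := hgv 2
      set u := g (fv i0)
      set w := g (fv i1 + fv i2)
      have hpu : polar Q p u = 1 := by
        rw [← e0, orth_polar hg, (plus_vals i0 i0).2.2.2.2, if_pos rfl]
      have hru : polar Q r u = 0 := by
        rw [← e1, orth_polar hg, (plus_vals i1 i0).2.2.2.2, if_neg h01.symm]
      have hr'u : polar Q r' u = 0 := by
        rw [← e2, orth_polar hg, (plus_vals i2 i0).2.2.2.2, if_neg h02.symm]
      have hpw : polar Q p w = 0 := by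
        rw [← e0, orth_polar hg, polar_add_right, (plus_vals i0 i1).2.2.2.2,
          (plus_vals i0 i2).2.2.2.2, if_neg h01, if_neg h02, add_zero]
      have hrw : polar Q r w = 1 := by
        rw [← e1, orth_polar hg, polar_add_right, (plus_vals i1 i1).2.2.2.2,
          (plus_vals i1 i2).2.2.2.2, if_pos rfl, if_neg h12, add_zero]
      have hr'w : polar Q r' w = 1 := by
        rw [← e2, orth_polar hg, polar_add_right, (plus_vals i2 i1).2.2.2.2,
          (plus_vals i2 i2).2.2.2.2, if_pos rfl, if_neg h12.symm, zero_add]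
      have hl : IsLine Q u w := by
        refine ⟨LinearIndependent.pair_iff.2 fun s t hst => ?_,
          (hg _).trans (plus_vals i0 i0).2.1, ?_, ?_⟩
        · have hs := congrArg (polar Q p) hst
          have ht := congrArg (polar Q r) hst
          simp only [polar_add_right, polar_smul_right, hpu, hpw, hru, hrw, smul_eq_mul,
            polar_zero_right] at hs ht
          exact ⟨by linear_combination hs, by linear_combination ht⟩
        · rw [hg, Q_add, (plus_vals i1 i1).2.1, (plus_vals i2 i2).2.1, (plus_vals i1 i2).2.2.2.1]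
          ring
        · rw [orth_polar hg, polar_add_right, (plus_vals i0 i1).2.2.2.1, (plus_vals i0 i2).2.2.2.1,
            add_zero]
      refine (Relation.ReflTransGen.single ⟨⟨_, _, h, rfl⟩, ⟨_, _, hl, rfl⟩,
        (opposite hf h hl ?_).1⟩).tail ⟨⟨_, _, hl, rfl⟩, ⟨_, _, h', rfl⟩,
          RankOnePair_symm (opposite hf h' hl ?_).1⟩
      · rw [hpu, hr'w, hpw]; simp
      · rw [hpu, hrw, hpw]; simp
    · -- the same line
      obtain ⟨c, hc, j, hj⟩ := Fintype.not_linearIndependent_iff.1 hi
      simp only [Fin.sum_univ_three, Matrix.cons_val_zero, Matrix.cons_val_one, Matrix.cons_val_two,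
        Matrix.head_cons, Matrix.tail_cons] at hc
      have hc2 : c 2 ≠ 0 := fun e => hj (by
        rw [e, zero_smul, add_zero] at hc
        obtain ⟨e0, e1⟩ := LinearIndependent.pair_iff.1 h.indep _ _ hc
        fin_cases j
        · exact e0
        · exact e1
        · exact e)
      have hc1 : c 1 ≠ 0 := fun e => hc2 (by
        rw [e, zero_smul, add_zero] at hc
        exact (LinearIndependent.pair_iff.1 h'.indep _ _ hc).2)
      have hr' : r' = (-(c 0 / c 2)) • p + (-(c 1 / c 2)) • r := by
        have h3 := congrArg (fun z => (c 2)⁻¹ • z) hc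
        simp only [smul_add, smul_smul, smul_zero, inv_mul_cancel₀ hc2, one_smul] at h3
        linear_combination (norm := skip) h3
        module
      have hD : (1 : F) * (-(c 1 / c 2)) - 0 * (-(c 0 / c 2)) ≠ 0 := by
        simp [hc1, hc2]
      have : rootGp hf h' = rootGp hf h := by
        rw [← rootGp_combo hf h hD]
        congr 1
        simp
      rw [this]
  -- two lines through a point
  have point : ∀ {p r r' : Fin (m + 3) ⊕ Fin (m + 3) → F} (h : IsLine Q p r) (h' : IsLine Q p r'),
      Relation.ReflTransGen (FAdj (family hf)) (rootGp hf h) (rootGp hf h') := by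
    intro p r r' h h'
    by_cases hrr : polar Q r r' = 0
    · exact plane h h' hrr
    obtain ⟨g, hg, hgv⟩ := witt_orth hQ ![ev i0, ev i1, polar Q r r' • fv i1] ![p, r, r'] (by
        rw [Fintype.linearIndependent_iff]
        intro c hc j
        have hh := congrFun hc (Sum.inl i0)
        have hh' := congrFun hc (Sum.inl i1)
        have hh'' := congrFun hc (Sum.inr i1)
        simp [Fin.sum_univ_three, ev, fv, h01, h01.symm, hrr] at hh hh' hh''
        fin_cases j <;> assumption) (by
        rw [Fintype.linearIndependent_iff]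
        intro c hc j
        simp only [Fin.sum_univ_three, Matrix.cons_val_zero, Matrix.cons_val_one,
          Matrix.cons_val_two, Matrix.head_cons, Matrix.tail_cons] at hc
        have h1 := congrArg (polar Q r') hc
        simp [polar_add_right, polar_smul_right, polar_self', h'.right, h'.perp,
          polar_comm (⇑Q) r' r, polar_comm (⇑Q) r' p, hrr] at h1
        have h2 := congrArg (polar Q r) hc
        simp [polar_add_right, polar_smul_right, polar_self', h.right, h.perp,
          polar_comm (⇑Q) r p, hrr] at h2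
        rw [h1, h2, zero_smul, zero_smul, add_zero, add_zero, smul_eq_zero] at hc
        fin_cases j
        · exact hc.resolve_right (h.indep.ne_zero 0)
        · exact h1
        · exact h2)
      (fun i => by
        fin_cases i <;> simp [Q, Q_smul, (plus_vals (F := F) _ i0).1, (plus_vals (F := F) _ i0).2.1,
          h.left, h.right, h'.right])
      (fun i j => by
        fin_cases i <;> fin_cases j <;>
          simp [Q, Q_smul, polar_self', polar_smul_left, polar_smul_right,
            (plus_vals (F := F) _ _).2.2.1, (plus_vals (F := F) _ _).2.2.2.1,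
            (plus_vals (F := F) _ _).2.2.2.2, polar_comm (⇑(qPlus (F := F) (m + 3))) (fv i1),
            (plus_vals (F := F) _ i0).1, (plus_vals (F := F) _ i0).2.1, h.left, h.right, h'.right,
            h.perp, h'.perp, h01, h01.symm, polar_comm (⇑(qPlus (F := F) (m + 3))) r p,
            polar_comm (⇑(qPlus (F := F) (m + 3))) r' p,
            polar_comm (⇑(qPlus (F := F) (m + 3))) r' r])
    have e0 : g (ev i0) = p := hgv 0
    have e1 : g (ev i1) = r := hgv 1
    have e2 : g (polar Q r r' • fv i1) = r' := hgv 2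
    set r'' := g (ev i2)
    have hmid : IsLine Q p r'' := by
      refine ⟨LinearIndependent.pair_iff.2 fun s t hst => ?_, h.left,
        (hg _).trans (plus_vals i2 i2).1, by rw [← e0, orth_polar hg, (plus_vals i0 i2).2.2.1]⟩
      rw [← e0, ← map_smul, ← map_smul, ← map_add, ← map_zero g] at hst
      have hst' := g.injective hst
      have hs := congrFun hst' (Sum.inl i0)
      have ht := congrFun hst' (Sum.inl i2)
      simp [ev, h02, h02.symm] at hs ht
      exact ⟨hs, ht⟩
    refine (plane h hmid ?_).trans (plane hmid h' ?_)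
    · rw [← e1, orth_polar hg, (plus_vals i1 i2).2.2.1]
    · rw [← e2, orth_polar hg, polar_smul_right, (plus_vals i2 i1).2.2.2.2, if_neg h12.symm,
        smul_zero]
  -- any two lines
  rintro _ ⟨p, r, h, rfl⟩ _ ⟨u, w, h', rfl⟩
  obtain ⟨s, t, hst, hperp⟩ : ∃ s t : F, (s ≠ 0 ∨ t ≠ 0) ∧ polar Q p (s • u + t • w) = 0 := by
    by_cases h0 : polar Q p u = 0
    · exact ⟨1, 0, Or.inl one_ne_zero, by simp [h0]⟩
    · exact ⟨-polar Q p w, polar Q p u, Or.inr h0, by
        simp only [polar_add_right, polar_smul_right, smul_eq_mul]; ring⟩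
  obtain ⟨a, b, hD⟩ : ∃ a b : F, s * b - t * a ≠ 0 := by
    rcases hst with hs | ht
    · exact ⟨0, 1, by simpa using hs⟩
    · exact ⟨1, 0, by simpa using ht⟩
  rw [← rootGp_combo hf h' hD]
  set x := s • u + t • w
  set y := a • u + b • w
  have hxy : IsLine Q x y := h'.combo hD
  by_cases hi : LinearIndependent F ![p, x]
  · have hpx : IsLine Q p x := ⟨hi, h.left, hxy.left, hperp⟩
    have hsw : (0 : F) * 0 - 1 * 1 ≠ 0 := by norm_num
    have hxp : IsLine Q ((0 : F) • p + (1 : F) • x) ((1 : F) • p + (0 : F) • x) := hpx.combo hsw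
    have e : rootGp hf hxp = rootGp hf hpx := rootGp_combo hf hpx hsw
    refine (point h hpx).trans ?_
    rw [← e]
    have hy' : IsLine Q ((0 : F) • p + (1 : F) • x) y := by
      rw [zero_smul, one_smul, zero_add]; exact hxy
    have e' : rootGp hf hy' = rootGp hf hxy := by congr 1; simp
    rw [← e']
    exact point hxp hy'
  · rw [LinearIndependent.pair_iff] at hi
    push Not at hi
    obtain ⟨c, d, hcd, hne⟩ := hi
    have hd : d ≠ 0 := fun e => by
      rw [e, zero_smul, add_zero, smul_eq_zero] at hcd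
      exact hne (hcd.resolve_right (h.indep.ne_zero 0)) e
    have hc : c ≠ 0 := fun e => by
      rw [e, zero_smul, zero_add, smul_eq_zero] at hcd
      exact hd (hcd.resolve_right (hxy.indep.ne_zero 0))
    have hD' : (-(d / c)) * 1 - 0 * 0 ≠ (0 : F) := by simp [hc, hd]
    have hpy := hxy.combo hD'
    have hp : p = (-(d / c)) • x + (0 : F) • y := by
      have h3 := congrArg (fun z => c⁻¹ • z) hcd
      simp only [smul_add, smul_smul, smul_zero, inv_mul_cancel₀ hc, one_smul] at h3
      linear_combination (norm := skip) h3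
      module
    rw [← rootGp_combo hf hxy hD']
    have h'' : IsLine Q ((-(d / c)) • x + (0 : F) • y) r := hp ▸ h
    have e : rootGp hf h = rootGp hf h'' := by congr 1
    rw [e]
    exact point h'' hpy

end Connected

end Cfsg.Agent.Lib.RootModels.SiegelLines
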