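import Cfsg.Agent.Lib.RootModels.Embed
import Cfsg.Agent.Lib.Symplectic.Std

/-!
The symplectic transvection subgroups of `Sp_{2m}`.
-/

set_option autoImplicit false

namespace Cfsg.Agent.Lib.RootModels.SpPairs

open Cfsg Matrix

variable {m : ℕ} {k : Type*} [Field k]

local notation "Sp" => Matrix.symplecticGroup (Fin m) k
local notation "JJ" => Matrix.J (Fin m) k

/-- The functional attached to a point. -/
def fn (p : Fin m ⊕ Fin m → k) : Fin m ⊕ Fin m → k := Matrix.J (Fin m) k *ᵥ p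

theorem fn_smul (c : k) (p : Fin m ⊕ Fin m → k) : fn (c • p) = c • fn p := mulVec_smul _ c p

theorem fn_alt (p r : Fin m ⊕ Fin m → k) : fn p ⬝ᵥ r = -(fn r ⬝ᵥ p) := by
  unfold fn
  conv_rhs => rw [dotProduct_comm, dotProduct_mulVec, ← mulVec_transpose, Matrix.J_transpose,
    neg_mulVec, neg_dotProduct, neg_neg]

theorem fn_self (p : Fin m ⊕ Fin m → k) : fn p ⬝ᵥ p = 0 := by
  simp [fn, dotProduct, Matrix.J, Matrix.mulVec, Fintype.sum_sum_type, Matrix.one_apply,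
    ← Finset.sum_add_distrib, mul_comm]

theorem sympTransvection_eq (p : Fin m ⊕ Fin m → k) (c : k) :
    Cfsg.sympTransvection m p c = tm (c • p) (fn p) := by
  rw [Cfsg.sympTransvection, tm, fn, smul_vecMulVec]

theorem tm_mem (p : Fin m ⊕ Fin m → k) (c : k) : tm (c • p) (fn p) ∈ Sp := by
  rw [← sympTransvection_eq]; exact Lib.Symplectic.sympTransvection_mem p c

theorem coe_mul' (a b : Sp) :
    ((a * b : Sp) : Matrix (Fin m ⊕ Fin m) (Fin m ⊕ Fin m) k) =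
      (a : Matrix (Fin m ⊕ Fin m) (Fin m ⊕ Fin m) k) * b := rfl

theorem dot_smul (p : Fin m ⊕ Fin m → k) (c : k) : fn p ⬝ᵥ (c • p) = 0 := by
  rw [dotProduct_smul, fn_self, smul_zero]

/-- The transvection group at a point. -/
def rootGp (p : Fin m ⊕ Fin m → k) : Subgroup Sp where
  carrier := {g | ∃ c : k, (g : Matrix (Fin m ⊕ Fin m) (Fin m ⊕ Fin m) k) = tm (c • p) (fn p)}
  one_mem' := ⟨0, by rw [zero_smul, tm_zero]; rfl⟩
  mul_mem' := by
    rintro a b ⟨c, hc⟩ ⟨d, hd⟩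
    refine ⟨c + d, ?_⟩
    rw [coe_mul', hc, hd, tm_add (dot_smul p d), add_smul]
  inv_mem' := by
    rintro a ⟨c, hc⟩
    refine ⟨-c, ?_⟩
    have : a⁻¹ = ⟨_, tm_mem p (-c)⟩ := inv_eq_of_mul_eq_one_right (Subtype.ext (by
      rw [coe_mul', hc]
      show tm (c • p) (fn p) * tm ((-c) • p) (fn p) = 1
      rw [tm_add (dot_smul p _), neg_smul, add_neg_cancel, tm_zero]))
    rw [this]

theorem exists_dual {p : Fin m ⊕ Fin m → k} (hp : p ≠ 0) : ∃ a, fn p ⬝ᵥ a ≠ 0 := by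
  have h0 : fn p ≠ 0 := fun h => hp (by
    have := congrArg (fun v => Matrix.J (Fin m) k *ᵥ v) h
    simpa [fn, mulVec_mulVec, Matrix.J_squared, neg_mulVec] using this)
  obtain ⟨i, hi⟩ := Function.ne_iff.1 h0
  exact ⟨Pi.single i 1, by simpa using hi⟩

theorem ne_bot {p : Fin m ⊕ Fin m → k} (hp : p ≠ 0) : rootGp p ≠ ⊥ := fun e => by
  have h1 : (⟨_, tm_mem p 1⟩ : Sp) ∈ rootGp p := ⟨1, rfl⟩
  rw [e, Subgroup.mem_bot] at h1
  have h2 : tm ((1 : k) • p) (fn p) = 1 := congrArg Subtype.val h1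
  obtain ⟨a, ha⟩ := exists_dual hp
  have h3 := congrArg (fun M : Matrix (Fin m ⊕ Fin m) (Fin m ⊕ Fin m) k => M *ᵥ a) h2
  simp only [tm_mulVec, one_smul, one_mulVec, add_eq_left, smul_eq_zero] at h3
  exact h3.elim ha hp

/-- The family of transvection groups. -/
def family (m : ℕ) (k : Type*) [Field k] : Set (Subgroup (Matrix.symplecticGroup (Fin m) k)) :=
  {A | ∃ p, p ≠ 0 ∧ A = rootGp p}

theorem fn_map (g : Sp) (p : Fin m ⊕ Fin m → k) :
    fn ((g : Matrix (Fin m ⊕ Fin m) (Fin m ⊕ Fin m) k) *ᵥ p) ᵥ*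
      (g : Matrix (Fin m ⊕ Fin m) (Fin m ⊕ Fin m) k) = fn p := by
  have h := SymplecticGroup.mem_iff'.mp g.2
  rw [fn, fn, ← mulVec_transpose, mulVec_mulVec, mulVec_mulVec, h]

theorem conjBy_rootGp (g : Sp) (p : Fin m ⊕ Fin m → k) :
    conjBy (rootGp p) g = rootGp ((g : Matrix (Fin m ⊕ Fin m) (Fin m ⊕ Fin m) k) *ᵥ p) := by
  set gp := (g : Matrix (Fin m ⊕ Fin m) (Fin m ⊕ Fin m) k) *ᵥ p
  have key : ∀ t : Sp, ∀ c : k, (t : Matrix (Fin m ⊕ Fin m) (Fin m ⊕ Fin m) k) = tm (c • p) (fn p) →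
      ((g * t * g⁻¹ : Sp) : Matrix (Fin m ⊕ Fin m) (Fin m ⊕ Fin m) k) = tm (c • gp) (fn gp) := by
    intro t c ht
    rw [coe_mul', coe_mul', ht, mul_tm (mulVec_smul _ c p) (fn_map g p), Matrix.mul_assoc,
      ← coe_mul', mul_inv_cancel]
    exact Matrix.mul_one _
  ext x
  rw [Lib.RootSubgroups.mem_conjBy]
  constructor
  · rintro ⟨c, hc⟩
    refine ⟨c, ?_⟩
    rw [show x = g * (g⁻¹ * x * g) * g⁻¹ by group, key _ c hc]
  · rintro ⟨c, hc⟩
    refine ⟨c, ?_⟩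
    let t : Sp := ⟨_, tm_mem p c⟩
    rw [show x = g * t * g⁻¹ from Subtype.ext (hc.trans (key t c rfl).symm),
      show g⁻¹ * (g * t * g⁻¹) * g = t by group]

theorem commute_case {p r : Fin m ⊕ Fin m → k} (h : fn p ⬝ᵥ r = 0) :
    ⁅rootGp p, rootGp r⁆ = ⊥ :=
  Lib.RootSubgroups.commutator_eq_bot_of_comm fun a ⟨c, hc⟩ b ⟨d, hd⟩ => Subtype.ext (by
    rw [coe_mul', coe_mul', hc, hd]
    refine tm_comm ?_ ?_
    · rw [dotProduct_smul, h, smul_zero]
    · rw [dotProduct_smul, fn_alt, h, neg_zero, smul_zero])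

theorem rankOne_case {p r : Fin m ⊕ Fin m → k} (h : fn p ⬝ᵥ r ≠ 0) :
    IsRankOnePair (rootGp p) (rootGp r) ∧ IsPSL2PairOver k (rootGp p) (rootGp r) := by
  set α := fn p ⬝ᵥ r
  have hrp : fn r ⬝ᵥ p = -α := by rw [fn_alt r p]
  have hU : rows (-(fn (α⁻¹ • r))) (fn p) * cols p (α⁻¹ • r) = 1 := rows_mul_cols
    (by rw [neg_dotProduct, fn_smul, smul_dotProduct, hrp, smul_eq_mul, mul_neg, neg_neg,
      inv_mul_cancel₀ h])
    (by rw [neg_dotProduct, fn_self, neg_zero]) (fn_self p)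
    (by rw [dotProduct_smul, smul_eq_mul, inv_mul_cancel₀ h])
  have hlow : ∀ c : k, embed _ _ hU (Lib.RootSubgroups.SL2.low c) =
      tm ((-(c * α⁻¹ * α⁻¹)) • r) (fn r) := by
    intro c
    rw [embed_low, fn_smul, tm, tm, smul_vecMulVec, smul_vecMulVec, vecMulVec_neg, vecMulVec_smul]
    simp only [smul_neg, smul_smul, smul_vecMulVec, vecMulVec_smul, neg_smul, neg_vecMulVec,
      mul_assoc]
  have hmem : ∀ M, embed _ _ hU M ∈ Sp := by
    let H : Subgroup (SpecialLinearGroup (Fin 2) k) :=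
      { carrier := {M | embed _ _ hU M ∈ Sp}
        one_mem' := by
          show embed _ _ hU 1 ∈ Sp
          rw [map_one]; exact one_mem _
        mul_mem' := fun {a b} ha hb => by
          show embed _ _ hU (a * b) ∈ Sp
          rw [map_mul]; exact mul_mem ha hb
        inv_mem' := fun {a} (ha : embed _ _ hU a ∈ Sp) => by
          show embed _ _ hU a⁻¹ ∈ Sp
          have e : embed _ _ hU a⁻¹ = (((⟨_, ha⟩ : Sp)⁻¹ : Sp) :
              Matrix (Fin m ⊕ Fin m) (Fin m ⊕ Fin m) k) := by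
            refine (left_inv_eq_right_inv (a := embed _ _ hU a) ?_ ?_)
            · rw [← map_mul, inv_mul_cancel, map_one]
            · exact congrArg Subtype.val (mul_inv_cancel (⟨_, ha⟩ : Sp))
          rw [e]; exact Subtype.coe_prop _ }
    have : H = ⊤ := by
      rw [eq_top_iff, ← Lib.RootSubgroups.SL2.generated, sup_le_iff]
      refine ⟨fun x hx => ?_, fun x hx => ?_⟩
      · obtain ⟨t, rfl⟩ := Lib.RootSubgroups.SL2.mem_lower.mp hx
        show embed _ _ hU _ ∈ Sp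
        rw [hlow]; exact tm_mem r _
      · obtain ⟨t, rfl⟩ := Lib.RootSubgroups.SL2.mem_upper.mp hx
        show embed _ _ hU _ ∈ Sp
        rw [embed_up]; exact tm_mem p t
    intro M
    exact (this ▸ Subgroup.mem_top M : M ∈ H)
  let f : SpecialLinearGroup (Fin 2) k →* Sp :=
    { toFun := fun M => ⟨embed _ _ hU M, hmem M⟩
      map_one' := Subtype.ext (map_one (embed _ _ hU))
      map_mul' := fun M N => Subtype.ext (map_mul (embed _ _ hU) M N) }
  refine pair_of_hom (f := f) (fun M N e => embed_injective hU (congrArg Subtype.val e))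
    (fun g => ?_) (fun g => ?_)
  · constructor
    · rintro ⟨c, hc⟩; exact ⟨c, Subtype.ext ((embed_up hU c).trans hc.symm)⟩
    · rintro ⟨c, rfl⟩; exact ⟨c, embed_up hU c⟩
  · constructor
    · rintro ⟨c, hc⟩
      refine ⟨-(c * α * α), Subtype.ext ((hlow _).trans ?_)⟩
      rw [hc]
      congr 2
      field_simp
    · rintro ⟨c, rfl⟩; exact ⟨_, hlow c⟩

theorem rootSubgroupSet : IsRootSubgroupSet (family m k) := by
  refine ⟨?_, ?_, ?_, ?_, ?_⟩
  · rintro _ ⟨p, hp, rfl⟩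
    refine ⟨⟨fun ⟨a, c, hc⟩ ⟨b, d, hd⟩ => Subtype.ext (Subtype.ext ?_)⟩⟩
    show (a : Matrix (Fin m ⊕ Fin m) (Fin m ⊕ Fin m) k) * b =
      (b : Matrix (Fin m ⊕ Fin m) (Fin m ⊕ Fin m) k) * a
    rw [hc, hd]
    exact tm_comm (dot_smul p d) (dot_smul p c)
  · rintro _ ⟨p, hp, rfl⟩; exact ne_bot hp
  · rw [eq_top_iff, ← Lib.Symplectic.closure_sympTransvection_eq_top, Subgroup.closure_le]
    rintro A ⟨w, c, hA⟩
    by_cases hw : w = 0
    · have : A = 1 := Subtype.ext (by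
        rw [hA, sympTransvection_eq, hw, smul_zero, tm_zero]; rfl)
      rw [this]; exact one_mem _
    · have hm : A ∈ rootGp w := ⟨c, by rw [hA, sympTransvection_eq]⟩
      exact Subgroup.mem_iSup_of_mem _ (Subgroup.mem_iSup_of_mem
        (show rootGp w ∈ family m k from ⟨w, hw, rfl⟩) hm)
  · rintro _ ⟨p, hp, rfl⟩ g
    refine ⟨_, fun e => hp ?_, conjBy_rootGp g p⟩
    have h := fn_map g p
    rw [e, fn, mulVec_zero, zero_vecMul] at h
    obtain ⟨a, ha⟩ | h0 := (em (∃ a, fn p ⬝ᵥ a ≠ 0))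
    · rw [← h, zero_dotProduct] at ha; exact absurd rfl ha
    · exact absurd (exists_dual hp) h0
  · rintro _ ⟨p, hp, rfl⟩ _ ⟨r, hr, rfl⟩
    by_cases h : fn p ⬝ᵥ r = 0
    · exact Or.inl (commute_case h)
    · exact Or.inr (Or.inl (rankOne_case h).1)

theorem degenerate : IsDegenerateRootSet (family m k) := by
  rintro _ ⟨p, hp, rfl⟩ _ ⟨r, hr, rfl⟩ hc
  by_cases h : fn p ⬝ᵥ r = 0
  · have h1 := hc.1
    rw [commute_case h] at h1
    obtain ⟨s, hs, e⟩ := h1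
    exact ne_bot hs e.symm
  · exact Lib.RootSubgroups.Root.not_commutatorCase rootSubgroupSet ⟨r, hr, rfl⟩ (rankOne_case h).1 hc

theorem kRoot : IsKRootSubgroupSet k (family m k) := by
  refine ⟨rootSubgroupSet, ?_⟩
  rintro _ ⟨p, hp, rfl⟩ _ ⟨r, hr, rfl⟩ hrk
  by_cases h : fn p ⬝ᵥ r = 0
  · exact absurd (commute_case h) (Lib.RootSubgroups.RankOne.not_commute hrk)
  · exact (rankOne_case h).2

theorem conjClass (hm : 0 < m) : IsConjClassOfSubgroups (family m k) := by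
  refine ⟨⟨_, Pi.single (Sum.inl ⟨0, hm⟩) 1, by simp, rfl⟩, ?_⟩
  rintro _ ⟨p, hp, rfl⟩ _ ⟨r, hr, rfl⟩
  obtain ⟨g, hg⟩ := Lib.Symplectic.exists_sp_mulVec_eq hp hr
  exact ⟨g, by rw [conjBy_rootGp, hg]⟩

/-- The functional `fn p` as a linear map. -/
def fnL (p : Fin m ⊕ Fin m → k) : (Fin m ⊕ Fin m → k) →ₗ[k] k where
  toFun x := fn p ⬝ᵥ x
  map_add' x y := dotProduct_add _ x y
  map_smul' c x := by rw [dotProduct_smul, RingHom.id_apply]

theorem connected : IsConnectedFamily (FAdj (family m k)) (family m k) := by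
  rintro _ ⟨p, hp, rfl⟩ _ ⟨r, hr, rfl⟩
  obtain ⟨x, hx1, hx2⟩ := exists_both (fnL p) (fnL r) (exists_dual hp) (exists_dual hr)
  change fn p ⬝ᵥ x ≠ 0 at hx1
  change fn r ⬝ᵥ x ≠ 0 at hx2
  have hx : x ≠ 0 := fun e => hx1 (by rw [e, dotProduct_zero])
  exact (Relation.ReflTransGen.single ⟨⟨p, hp, rfl⟩, ⟨x, hx, rfl⟩,
    (rankOne_case hx1).1⟩).tail ⟨⟨x, hx, rfl⟩, ⟨r, hr, rfl⟩,
    RankOnePair_symm (rankOne_case hx2).1⟩

theorem closure_eq (p : Fin m ⊕ Fin m → k) :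
    Subgroup.closure {g : Sp | ∃ c : k, ∀ v : Fin m ⊕ Fin m → k,
      (g : Matrix (Fin m ⊕ Fin m) (Fin m ⊕ Fin m) k) *ᵥ v =
        v + (c * (v ⬝ᵥ (Matrix.J (Fin m) k *ᵥ p))) • p} = rootGp p := by
  refine le_antisymm ((Subgroup.closure_le _).mpr fun g ⟨c, hc⟩ => ⟨c, Matrix.mulVec_injective
    (funext fun v => ?_)⟩) fun g ⟨c, hc⟩ => Subgroup.subset_closure ⟨c, fun v => ?_⟩
  · show _ *ᵥ v = _ *ᵥ v
    rw [hc, tm_mulVec, fn, smul_smul, dotProduct_comm v, mul_comm c]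
  · rw [hc, tm_mulVec, fn, smul_smul, dotProduct_comm v, mul_comm c]

theorem set_eq : {A : Subgroup Sp | ∃ p : Fin m ⊕ Fin m → k, p ≠ 0 ∧
    A = Subgroup.closure {g : Sp | ∃ c : k, ∀ v : Fin m ⊕ Fin m → k,
      (g : Matrix (Fin m ⊕ Fin m) (Fin m ⊕ Fin m) k) *ᵥ v =
        v + (c * (v ⬝ᵥ (Matrix.J (Fin m) k *ᵥ p))) • p}} = family m k := by
  ext A
  simp only [family, Set.mem_ofPred_eq, closure_eq]

end Cfsg.Agent.Lib.RootModels.SpPairs
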